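/-
Primitive groups of 3-transpositions over a reflection group over the field with three elements:
the standing data.
-/
import Cfsg.Agent.H99.ReflectionBridge

set_option autoImplicit false
set_option linter.unusedSectionVars false

namespace H20.FischerO3

open Cfsg H43

variable {V : Type*} [AddCommGroup V] [Module (ZMod 3) V]

/-- Two vectors on the same line (for vectors of one non-zero norm, or non-zero singular ones). -/
def PM (u v : V) : Prop := v = u ∨ v = -u

namespace PM

variable {u v w : V}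

lemma refl (u : V) : PM u u := Or.inl rfl

lemma neg_self (u : V) : PM u (-u) := Or.inr rfl

lemma symm (h : PM u v) : PM v u := by
  rcases h with rfl | rfl
  · exact Or.inl rfl
  · exact Or.inr (neg_neg u).symm

lemma trans (h : PM u v) (h' : PM v w) : PM u w := by
  rcases h with rfl | rfl <;> rcases h' with rfl | rfl
  · exact Or.inl rfl
  · exact Or.inr rfl
  · exact Or.inr rfl
  · exact Or.inl (neg_neg u)

variable {Q : QuadraticForm (ZMod 3) V}

lemma qmap (h : PM u v) : Q v = Q u := by
  rcases h with rfl | rfl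
  · rfl
  · exact qmap_neg u

lemma polB_eq_zero (h : PM u v) (x : V) : polB Q x v = 0 ↔ polB Q x u = 0 := by
  rcases h with rfl | rfl
  · rfl
  · rw [map_neg, neg_eq_zero]

lemma polB_eq_zero' (h : PM u v) (x : V) : polB Q v x = 0 ↔ polB Q u x = 0 := by
  rw [polB_comm v, polB_comm u, h.polB_eq_zero]

lemma refl_eq (h : PM u v) : H43.refl Q v = H43.refl Q u := by
  rcases h with rfl | rfl
  · rfl
  · exact refl_neg u

lemma orth (h : PM u v) (g : orthGroup Q) : PM (g.1 u) (g.1 v) := by
  rcases h with rfl | rfl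
  · exact Or.inl rfl
  · exact Or.inr (map_neg _ u)

end PM

variable {G : Type*} [Group G]

/-- A set of elements of `G` seen as the reflections of norm `c`. -/
structure Chart (Q : QuadraticForm (ZMod 3) V) (c : ZMod 3) (E : Set G) (φ : G → V) : Prop where
  val : ∀ x ∈ E, Q (φ x) = c
  inj : ∀ x ∈ E, ∀ y ∈ E, PM (φ x) (φ y) → x = y
  surj : ∀ v, Q v = c → ∃ x ∈ E, PM v (φ x)
  comm : ∀ x ∈ E, ∀ y ∈ E, x ≠ y → (Commute x y ↔ polB Q (φ x) (φ y) = 0)
  conj : ∀ x ∈ E, ∀ y ∈ E, x * y * x ∈ E ∧ PM ((H43.refl Q (φ x)).1 (φ y)) (φ (x * y * x))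

/-- The standing hypotheses. -/
structure Ctx (Q : QuadraticForm (ZMod 3) V) (c : ZMod 3) (D : Set G) (d : G) (φ : G → V) : Prop where
  cls : IsThreeTranspositionClass D
  prim : IsPrimitiveUnderConj D
  mem : d ∈ D
  wide : ∃ a ∈ D, ∃ b ∈ D, a ≠ b ∧ Commute a b
  nd : (polB Q).Nondegenerate
  dim : 5 ≤ Module.finrank (ZMod 3) V
  cne : c ≠ 0
  chart : Chart Q c (H99.perp D d) φ

/-- The members not commuting with `d`. -/
def far (D : Set G) (d : G) : Set G := {a | a ∈ D ∧ ¬ Commute d a}

/-- A non-zero singular vector. -/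
def Sg (Q : QuadraticForm (ZMod 3) V) (r : V) : Prop := r ≠ 0 ∧ Q r = 0

/-- A labelling of the members not commuting with `d` by the non-zero singular vectors, under which
`a` stands for the point `v + f a` of the space with one more orthogonal vector `v` of norm `c`. -/
structure AMap (Q : QuadraticForm (ZMod 3) V) (c : ZMod 3) (D : Set G) (d : G) (φ f : G → V) :
    Prop where
  sing : ∀ a ∈ far D d, Sg Q (f a)
  flip : ∀ a ∈ far D d, f (d * a * d) = - f a
  inj : ∀ a ∈ far D d, ∀ b ∈ far D d, f a = f b → a = b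
  surj : ∀ r, Sg Q r → ∃ a ∈ far D d, f a = r
  commE : ∀ x ∈ H99.perp D d, ∀ a ∈ far D d, (Commute x a ↔ polB Q (φ x) (f a) = 0)
  commA : ∀ a ∈ far D d, ∀ b ∈ far D d, a ≠ b → (Commute a b ↔ polB Q (f a) (f b) = c)

end H20.FischerO3
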