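/-
The chart given by the reflection case one step down.
-/
import Cfsg.Agent.H20.FischerO3.Base
import Cfsg.Agent.H73.Fischer.ChartRefl

set_option autoImplicit false

namespace H20.FischerO3

open Cfsg H43 H71.Fischer
open H5.TT.Fac (Down qD)

universe u

theorem ctx_of_reflCase {G : Type u} [Group G] [Finite G] {D : Set G} {d : G} {n : ℕ}
    (s : Step D d) (hn : 5 ≤ n) (h : ReflCase (Down D d) (qD D d) n) :
    ∃ (Q : QuadraticForm (ZMod 3) (Fin n → ZMod 3)) (c : ZMod 3) (φ : G → (Fin n → ZMod 3)),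
      Ctx Q c D d φ := by
  classical
  obtain ⟨fm, pt0, hc0⟩ := H73.Fischer.chart_of_reflCase hn h
  obtain ⟨pt, hc⟩ := H73.Fischer.chart_lift s.desc hc0
  let Q : QuadraticForm (ZMod 3) (Fin n → ZMod 3) := LinearMap.BilinMap.toQuadraticMap fm.B
  have hQv : ∀ v, Q v = fm.B v v := fun v => rfl
  have hQB : ∀ u v, polB Q u v = 2 * fm.B u v := fun u v => by
    rw [polB_apply, QuadraticMap.polar, hQv, hQv, hQv, map_add, map_add, LinearMap.add_apply,
      LinearMap.add_apply, fm.symm v u]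
    ring
  have hB0 : ∀ u v, polB Q u v = 0 ↔ fm.B u v = 0 := fun u v => by
    rw [hQB, mul_eq_zero, or_iff_right (by decide : (2 : ZMod 3) ≠ 0)]
  have hPt : ∀ v, fm.Pt v ↔ Q v = 1 := fun v => Iff.rfl
  let φ : G → (Fin n → ZMod 3) := fun x =>
    if hx : x ∈ H99.perp D d then (hc.surj x hx).choose else 0
  have hφ : ∀ x ∈ H99.perp D d, Q (φ x) = 1 ∧ pt (φ x) = x := fun x hx => by
    simp only [φ, dif_pos hx]
    exact (hc.surj x hx).choose_spec
  have hpm : ∀ u v, Q u = 1 → Q v = 1 → (pt u = pt v ↔ PM u v) := fun u v hu hv => by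
    rw [hc.eq_iff u v hu hv]
    constructor
    · rintro (rfl | rfl)
      · exact PM.refl _
      · exact (PM.neg_self v).symm
    · rintro (rfl | rfl)
      · exact Or.inl rfl
      · exact Or.inr (neg_neg u).symm
  refine ⟨Q, 1, φ, s.cls, s.prim, s.mem, ?_, ?_, by rwa [Module.finrank_fin_fun], one_ne_zero,
    fun x hx => (hφ x hx).1, fun x hx y hy hp => ?_, fun v hv => ?_, fun x hx y hy hne => ?_,
    fun x hx y hy => ?_⟩
  · obtain ⟨b, hb, hbd, hcb⟩ := s.wide
    exact ⟨d, s.mem, b, hb, hbd.symm, hcb⟩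
  · refine ⟨fun x hx => fm.nondeg x fun y => (hB0 x y).1 (hx y), fun x hx => fm.nondeg x fun y => ?_⟩
    rw [fm.symm]
    exact (hB0 y x).1 (hx y)
  · rw [← (hφ x hx).2, ← (hφ y hy).2]
    exact (hpm _ _ (hφ x hx).1 (hφ y hy).1).2 hp
  · exact ⟨pt v, hc.mem v hv, (hpm v _ hv (hφ _ (hc.mem v hv)).1).1 (hφ _ (hc.mem v hv)).2.symm⟩
  · conv_lhs => rw [← (hφ x hx).2, ← (hφ y hy).2]
    rw [hB0]
    refine hc.comm _ _ (hφ x hx).1 (hφ y hy).1 (fun e => hne ?_) (fun e => hne ?_)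
    · rw [← (hφ x hx).2, e, (hφ y hy).2]
    · rw [← (hφ x hx).2, ← (hφ y hy).2]
      exact (hc.eq_iff _ _ (hφ x hx).1 (hφ y hy).1).2 (Or.inr e)
  · have hm : x * y * x ∈ H99.perp D d := by
      have := H5.TT.Fac.perp_closure_conj s.desc (Subgroup.subset_closure hx) hy
      rwa [H99.tt_inv s.cls.1 hx.1] at this
    refine ⟨hm, ?_⟩
    have href : fm.ref (φ x) (φ y) = (refl Q (φ x)).1 (φ y) := by
      rw [Form3.ref, refl_apply, (hφ x hx).1, hQB, inv_one, one_mul, sub_eq_add_neg, ← neg_smul]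
      congr 2
      generalize fm.B (φ y) (φ x) = t
      revert t; decide
    have h1 := hc.conj (φ y) (φ x) (hφ y hy).1 (hφ x hx).1
    rw [(hφ x hx).2, (hφ y hy).2, href] at h1
    exact (hpm _ _ (by rw [orth_qmap]; exact (hφ y hy).1) (hφ _ hm).1).1
      (h1.symm.trans (hφ _ hm).2.symm)

end H20.FischerO3
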