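/-
Vectors in an orthogonal space over the field with three elements.
-/
import Cfsg.Agent.H20.FischerO3.Base

set_option autoImplicit false
set_option linter.unusedSectionVars false
set_option linter.unusedVariables false

namespace H20.FischerO3

open H43

local instance factPrimeThreeGeom : Fact (Nat.Prime 3) := ⟨Nat.prime_three⟩

variable {V : Type*} [AddCommGroup V] [Module (ZMod 3) V] [FiniteDimensional (ZMod 3) V]
variable {Q : QuadraticForm (ZMod 3) V} {c : ZMod 3}

namespace GeomAux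

lemma z3_unit : ∀ a : ZMod 3, a ≠ 0 → a = 1 ∨ a = -1 := by decide

lemma z3_eq_or : ∀ a c : ZMod 3, a ≠ 0 → c ≠ 0 → a = c ∨ a = -c := by decide

lemma z3_pm : ∀ a b : ZMod 3, a ≠ 0 → a + b ≠ 0 ∨ a - b ≠ 0 := by decide

lemma z3_pm' : ∀ a b : ZMod 3, b ≠ 0 → a + b ≠ 0 ∨ a - b ≠ 0 := by decide

lemma z3_two : (2 : ZMod 3) ≠ 0 := by decide

lemma pm_smul (r : V) {b : ZMod 3} (hb : b ≠ 0) : PM r (b • r) := by
  rcases z3_unit b hb with rfl | rfl
  · exact Or.inl (one_smul _ r)
  · exact Or.inr (neg_one_smul _ r)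

lemma polB_self_ne {x : V} (hx : Q x ≠ 0) : polB Q x x ≠ 0 := by
  rw [polB_self]
  exact mul_ne_zero z3_two hx

/-- `s` spans at most a `k`-space whose radical lies in the line of `r`. -/
structure Frame (Q : QuadraticForm (ZMod 3) V) (s : Set V) (r : V) (k : ℕ) : Prop where
  le : Module.finrank (ZMod 3) (Submodule.span (ZMod 3) s) ≤ k
  rad : ∀ z ∈ Submodule.span (ZMod 3) s, (∀ y ∈ s, polB Q y z = 0) → z ∈ (ZMod 3) ∙ r

lemma frame_empty : Frame Q (∅ : Set V) 0 0 := by
  refine ⟨?_, fun z hz _ => ?_⟩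
  · rw [Submodule.span_empty, finrank_bot]
  · rw [Submodule.span_empty, Submodule.mem_bot] at hz
    rw [hz]
    exact Submodule.zero_mem _

lemma frame_single (r : V) : Frame Q ({r} : Set V) r 1 := by
  refine ⟨?_, fun z hz _ => hz⟩
  have := finrank_span_finset_le_card (R := ZMod 3) ({r} : Finset V)
  rwa [Set.finrank, Finset.coe_singleton, Finset.card_singleton] at this

lemma Frame.add {s : Set V} {r : V} {k : ℕ} (h : Frame Q s r k) {f : V} (hf : Q f ≠ 0)
    (hp : ∀ y ∈ s, polB Q y f = 0) : Frame Q (insert f s) r (k + 1) := by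
  refine ⟨?_, fun z hz hzp => ?_⟩
  · rw [Submodule.span_insert]
    refine (Submodule.finrank_add_le_finrank_add_finrank _ _).trans ?_
    rw [finrank_span_singleton (H99.ReflThree.ne_zero_of_qmap hf)]
    have := h.le
    omega
  · obtain ⟨t, w, hw, rfl⟩ := Submodule.mem_span_insert.1 hz
    have hfw : polB Q f w = 0 :=
      (mem_orth_span.2 (fun y hy => hp y hy) : f ∈ (polB Q).orthogonal (Submodule.span (ZMod 3) s))
        w hw |>.symm.trans (polB_comm w f) |>.symm
    have ht : t = 0 := by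
      have := hzp f (Set.mem_insert _ _)
      rw [map_add, map_smul, smul_eq_mul, hfw, add_zero] at this
      exact (mul_eq_zero.1 this).resolve_right (polB_self_ne hf)
    subst ht
    rw [zero_smul, zero_add]
    refine h.rad w hw fun y hy => ?_
    have := hzp y (Set.mem_insert_of_mem _ hy)
    rwa [zero_smul, zero_add] at this

lemma Frame.exists_aniso (hQ : (polB Q).Nondegenerate) {s : Set V} {r : V} {k : ℕ}
    (h : Frame Q s r k) (hk : k + 2 ≤ Module.finrank (ZMod 3) V) :
    ∃ f, (∀ y ∈ s, polB Q y f = 0) ∧ Q f ≠ 0 := by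
  by_contra hno
  push Not at hno
  set S := Submodule.span (ZMod 3) s with hS
  have hsing : ∀ f ∈ (polB Q).orthogonal S, Q f = 0 := fun f hf =>
    hno f fun y hy => hf y (Submodule.subset_span hy)
  have hsub : (polB Q).orthogonal S ≤ (ZMod 3) ∙ r := by
    intro f hf
    by_cases hfS : f ∈ S
    · exact h.rad f hfS fun y hy => hf y (Submodule.subset_span hy)
    · obtain ⟨w, hw, hfw⟩ := exists_orth_polB_eq hQ hfS 1
      have := polB_eq_zero_of_singular hsing hf (hw : w ∈ (polB Q).orthogonal S)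
      rw [hfw] at this
      exact absurd this one_ne_zero
  have h1 := finrank_orth_add hQ S
  have h2 := Submodule.finrank_mono hsub
  have h3 : Module.finrank (ZMod 3) ((ZMod 3) ∙ r) ≤ 1 :=
    (frame_single (Q := Q) r).le
  have := h.le
  rw [← hS] at this
  omega

lemma Frame.exists_point (hQ : (polB Q).Nondegenerate) (hc : c ≠ 0) {s : Set V} {r : V} {k : ℕ}
    (h : Frame Q s r k) (hk : k + 3 ≤ Module.finrank (ZMod 3) V) :
    ∃ e, (∀ y ∈ s, polB Q y e = 0) ∧ Q e = c := by
  obtain ⟨f, hf, hf0⟩ := h.exists_aniso hQ (by omega)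
  obtain ⟨g, hg, hg0⟩ := (h.add hf0 hf).exists_aniso hQ (by omega)
  rcases z3_eq_or _ _ hf0 hc with e1 | e1
  · exact ⟨f, hf, e1⟩
  rcases z3_eq_or _ _ hg0 hc with e2 | e2
  · exact ⟨g, fun y hy => hg y (Set.mem_insert_of_mem _ hy), e2⟩
  refine ⟨f + g, fun y hy => ?_, ?_⟩
  · rw [map_add, hf y hy, hg y (Set.mem_insert_of_mem _ hy), add_zero]
  · rw [qmap_add, e1, e2, hg f (Set.mem_insert _ _)]
    exact (by decide : ∀ c : ZMod 3, -c + -c + 0 = c) c

lemma exists_aniso_with (hQ : (polB Q).Nondegenerate) {s : Set V} {a f0 : V}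
    (ha : a ∉ Submodule.span (ZMod 3) s) (hf0 : ∀ y ∈ s, polB Q y f0 = 0) (hq : Q f0 ≠ 0) :
    ∃ f, (∀ y ∈ s, polB Q y f = 0) ∧ Q f ≠ 0 ∧ polB Q a f ≠ 0 := by
  by_cases hb : polB Q a f0 = 0
  swap
  · exact ⟨f0, hf0, hq, hb⟩
  obtain ⟨y, hy, hay⟩ := exists_orth_polB_eq hQ ha 1
  have hy' : ∀ z ∈ s, polB Q z y = 0 := fun z hz => hy z (Submodule.subset_span hz)
  by_cases hqy : Q y = 0
  swap
  · exact ⟨y, hy', hqy, by rw [hay]; exact one_ne_zero⟩
  rcases z3_pm (Q f0) (polB Q y f0) hq with h | h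
  · refine ⟨y + f0, fun z hz => by rw [map_add, hy' z hz, hf0 z hz, add_zero], ?_, ?_⟩
    · rw [qmap_add, hqy, zero_add]; exact h
    · rw [map_add, hay, hb, add_zero]; exact one_ne_zero
  · refine ⟨y - f0, fun z hz => by rw [map_sub, hy' z hz, hf0 z hz, sub_zero], ?_, ?_⟩
    · rw [qmap_sub, hqy, zero_add]; exact h
    · rw [map_sub, hay, hb, sub_zero]; exact one_ne_zero

lemma Frame.exists_point_with (hQ : (polB Q).Nondegenerate) (hc : c ≠ 0) {s : Set V} {r a : V}
    {k : ℕ} (h : Frame Q s r k) (hk : k + 4 ≤ Module.finrank (ZMod 3) V)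
    (ha : a ∉ Submodule.span (ZMod 3) s) :
    ∃ p, (∀ y ∈ s, polB Q y p = 0) ∧ Q p = c ∧ polB Q a p ≠ 0 := by
  obtain ⟨f0, hf0, hq⟩ := h.exists_aniso hQ (by omega)
  obtain ⟨f, hf, hfq, hfa⟩ := exists_aniso_with hQ ha hf0 hq
  rcases z3_eq_or _ _ hfq hc with e1 | e1
  · exact ⟨f, hf, e1, hfa⟩
  have H1 := h.add hfq hf
  -- a vector of norm `-c` orthogonal to `f` can be added to `f`
  have hpair : ∀ g, (∀ y ∈ insert f s, polB Q y g = 0) → Q g = -c →
      ∃ p, (∀ y ∈ s, polB Q y p = 0) ∧ Q p = c ∧ polB Q a p ≠ 0 := by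
    intro g hg hgq
    have hg' : ∀ y ∈ s, polB Q y g = 0 := fun y hy => hg y (Set.mem_insert_of_mem _ hy)
    have hfg := hg f (Set.mem_insert _ _)
    rcases z3_pm (polB Q a f) (polB Q a g) hfa with h' | h'
    · refine ⟨f + g, fun y hy => by rw [map_add, hf y hy, hg' y hy, add_zero], ?_,
        by rw [map_add]; exact h'⟩
      rw [qmap_add, e1, hgq, hfg]
      exact (by decide : ∀ c : ZMod 3, -c + -c + 0 = c) c
    · refine ⟨f - g, fun y hy => by rw [map_sub, hf y hy, hg' y hy, sub_zero], ?_,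
        by rw [map_sub]; exact h'⟩
      rw [qmap_sub, e1, hgq, hfg]
      exact (by decide : ∀ c : ZMod 3, -c + -c - 0 = c) c
  obtain ⟨f2, hf2, hq2⟩ := H1.exists_aniso hQ (by omega)
  have hf2' : ∀ y ∈ s, polB Q y f2 = 0 := fun y hy => hf2 y (Set.mem_insert_of_mem _ hy)
  rcases z3_eq_or _ _ hq2 hc with e2 | e2
  swap
  · exact hpair f2 hf2 e2
  by_cases hb2 : polB Q a f2 = 0
  swap
  · exact ⟨f2, hf2', e2, hb2⟩
  obtain ⟨f3, hf3, hq3⟩ := (H1.add hq2 hf2).exists_aniso hQ (by omega)
  have hf3' : ∀ y ∈ s, polB Q y f3 = 0 :=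
    fun y hy => hf3 y (Set.mem_insert_of_mem _ (Set.mem_insert_of_mem _ hy))
  rcases z3_eq_or _ _ hq3 hc with e3 | e3
  swap
  · exact hpair f3 (fun y hy => hf3 y (Set.mem_insert_of_mem _ hy)) e3
  by_cases hb3 : polB Q a f3 = 0
  swap
  · exact ⟨f3, hf3', e3, hb3⟩
  refine ⟨f + f2 + f3, fun y hy => ?_, ?_, ?_⟩
  · rw [map_add, map_add, hf y hy, hf2' y hy, hf3' y hy, add_zero, add_zero]
  · rw [qmap_add, qmap_add, map_add, LinearMap.add_apply, e1, e2, e3, hf2 f (Set.mem_insert _ _),
      hf3 f (Set.mem_insert_of_mem _ (Set.mem_insert _ _)), hf3 f2 (Set.mem_insert _ _)]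
    exact (by decide : ∀ c : ZMod 3, -c + c + 0 + c + (0 + 0) = c) c
  · rw [map_add, map_add, hb2, hb3, add_zero, add_zero]
    exact hfa

lemma frame_xr {x r : V} (hx : Q x ≠ 0) (hxr : polB Q x r = 0) :
    Frame Q ({x, r} : Set V) r 2 :=
  (frame_single r).add hx (by
    intro y hy
    rw [Set.mem_singleton_iff.1 hy, polB_comm]
    exact hxr)

lemma frame_x {x : V} (hx : Q x ≠ 0) : Frame Q ({x} : Set V) 0 1 := by
  rw [show ({x} : Set V) = insert x ∅ from (insert_empty_eq x).symm]
  exact frame_empty.add hx (by simp)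

end GeomAux

open GeomAux

/-- G2. A point orthogonal to a point and a singular vector. -/
theorem exists_point_sg (hQ : (polB Q).Nondegenerate) (h5 : 5 ≤ Module.finrank (ZMod 3) V)
    (hc : c ≠ 0) {x r : V} (hx : Q x = c) (hr : Sg Q r) (hxr : polB Q x r = 0) :
    ∃ e, Q e = c ∧ polB Q x e = 0 ∧ polB Q r e = 0 := by
  obtain ⟨e, he, hq⟩ := (frame_xr (hx ▸ hc) hxr).exists_point hQ hc (by omega)
  exact ⟨e, hq, he x (by simp), he r (by simp)⟩

/-- G3. A point orthogonal to a singular vector. -/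
theorem exists_point_perp_sg (hQ : (polB Q).Nondegenerate) (h5 : 5 ≤ Module.finrank (ZMod 3) V)
    (hc : c ≠ 0) {r : V} (hr : Sg Q r) : ∃ e, Q e = c ∧ polB Q r e = 0 := by
  obtain ⟨e, he, hq⟩ := (frame_single (Q := Q) r).exists_point hQ hc (by omega)
  exact ⟨e, hq, he r rfl⟩

/-- G4. A singular vector orthogonal to a point. -/
theorem exists_sg_perp (hQ : (polB Q).Nondegenerate) (h5 : 5 ≤ Module.finrank (ZMod 3) V)
    (hc : c ≠ 0) {x : V} (hx : Q x = c) : ∃ r, Sg Q r ∧ polB Q x r = 0 := by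
  have H := frame_x (Q := Q) (x := x) (hx ▸ hc)
  obtain ⟨e, he, hq⟩ := H.exists_point hQ hc (by omega)
  have H1 := H.add (hq ▸ hc) he
  obtain ⟨w, hw, hwq⟩ := H1.exists_aniso hQ (by omega)
  obtain ⟨g, hg, hgq⟩ := (H1.add hwq hw).exists_aniso hQ (by omega)
  have hew := hw e (Set.mem_insert _ _)
  have heg := hg e (Set.mem_insert_of_mem _ (Set.mem_insert _ _))
  have hwg := hg w (Set.mem_insert _ _)
  have hxe := he x rfl
  have hxw := hw x (Set.mem_insert_of_mem _ rfl)
  have hxg := hg x (Set.mem_insert_of_mem _ (Set.mem_insert_of_mem _ rfl))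
  have hee : polB Q e e ≠ 0 := polB_self_ne (hq ▸ hc)
  have hne : ∀ v, polB Q e v = polB Q e e → v ≠ 0 := fun v h h0 => hee (by
    rw [← h, h0, map_zero])
  rcases z3_eq_or _ _ hwq hc with e2 | e2
  swap
  · exact ⟨e + w, ⟨hne _ (by rw [map_add, hew, add_zero]),
      by rw [qmap_add, hq, e2, hew, add_zero, add_neg_cancel]⟩, by rw [map_add, hxe, hxw, add_zero]⟩
  rcases z3_eq_or _ _ hgq hc with e3 | e3
  swap
  · exact ⟨e + g, ⟨hne _ (by rw [map_add, heg, add_zero]),
      by rw [qmap_add, hq, e3, heg, add_zero, add_neg_cancel]⟩, by rw [map_add, hxe, hxg, add_zero]⟩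
  refine ⟨e + w + g, ⟨hne _ (by rw [map_add, map_add, hew, heg, add_zero, add_zero]), ?_⟩, ?_⟩
  · rw [qmap_add, qmap_add, map_add, LinearMap.add_apply, hq, e2, e3, hew, heg, hwg]
    exact (by decide : ∀ c : ZMod 3, c + c + 0 + c + (0 + 0) = 0) c
  · rw [map_add, map_add, hxe, hxw, hxg, add_zero, add_zero]

/-- G1. A singular point is determined by the points orthogonal to it (inside `x`-perp). -/
theorem sg_unique (hQ : (polB Q).Nondegenerate) (h5 : 5 ≤ Module.finrank (ZMod 3) V) (hc : c ≠ 0)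
    {x r r' : V} (hx : Q x = c) (hr : Sg Q r) (hxr : polB Q x r = 0) (hr' : Sg Q r')
    (hxr' : polB Q x r' = 0)
    (h : ∀ p, Q p = c → polB Q x p = 0 → polB Q r p = 0 → polB Q r' p = 0) : PM r r' := by
  obtain ⟨e, he, hxe, hre⟩ := exists_point_sg hQ h5 hc hx hr hxr
  have hrr : polB Q r r = 0 := by rw [polB_self, hr.2, mul_zero]
  have hr'r : polB Q r' r = 0 := by
    have h1 := h e he hxe hre
    have h2 := h (e + r) (by rw [qmap_add, he, hr.2, polB_comm, hre, add_zero, add_zero])
      (by rw [map_add, hxe, hxr, add_zero]) (by rw [map_add, hre, hrr, add_zero])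
    rwa [map_add, h1, zero_add] at h2
  by_cases hmem : r' ∈ Submodule.span (ZMod 3) {x, r}
  · obtain ⟨a, b, hab⟩ := Submodule.mem_span_pair.1 hmem
    have ha : a = 0 := by
      have := hxr'
      rw [← hab, map_add, map_smul, map_smul, smul_eq_mul, smul_eq_mul, hxr, mul_zero,
        add_zero] at this
      exact (mul_eq_zero.1 this).resolve_right (polB_self_ne (hx ▸ hc))
    rw [ha, zero_smul, zero_add] at hab
    rw [← hab]
    refine pm_smul r fun hb => hr'.1 ?_
    rw [← hab, hb, zero_smul]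
  · obtain ⟨y, hy, hry⟩ := exists_orth_polB_eq hQ hmem 1
    have hxy : polB Q x y = 0 := hy x (Submodule.subset_span (by simp))
    have hr_y : polB Q r y = 0 := hy r (Submodule.subset_span (by simp))
    have h3 := h (y + (c - Q y) • r')
      (by rw [qmap_add_smul, hr'.2, polB_comm y, hry]; ring)
      (by rw [map_add, map_smul, hxy, hxr', smul_zero, add_zero])
      (by rw [map_add, map_smul, hr_y, polB_comm r, hr'r, smul_zero, add_zero])
    rw [map_add, map_smul, hry, polB_self, hr'.2, mul_zero, smul_zero, add_zero] at h3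
    exact absurd h3 one_ne_zero

/-- G5. Orthogonality to a singular vector is seen on a line with that radical. -/
theorem line_iff {e r : V} (hre : polB Q e r = 0) (p : V) :
    polB Q p r = 0 ↔ ((polB Q p e = 0 ↔ polB Q p (e + r) = 0) ∧
      (polB Q p e = 0 ↔ polB Q p (e - r) = 0)) := by
  rw [map_add, map_sub]
  exact (by decide : ∀ a b : ZMod 3, b = 0 ↔ ((a = 0 ↔ a + b = 0) ∧ (a = 0 ↔ a - b = 0))) _ _

/-- G6. Two non-orthogonal points span a degenerate line. -/
theorem line_of_nonorth (hc : c ≠ 0) {u v : V} (hu : Q u = c) (hv : Q v = c)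
    (hne : ¬ PM u v) (huv : polB Q u v ≠ 0) :
    ∃ r, Sg Q r ∧ polB Q u r = 0 ∧ PM (u + r) v := by
  obtain ⟨v', hv', hB⟩ : ∃ v', PM v v' ∧ polB Q u v' = -c := by
    rcases z3_eq_or _ _ huv hc with h | h
    · exact ⟨-v, Or.inr rfl, by rw [map_neg, h]⟩
    · exact ⟨v, Or.inl rfl, h⟩
  have hqv' : Q v' = c := hv'.qmap.trans hv
  refine ⟨v' - u, ⟨fun h0 => hne ?_, ?_⟩, ?_, ?_⟩
  · rw [← sub_eq_zero.1 h0]
    exact hv'.symm
  · rw [qmap_sub, hqv', hu, polB_comm, hB]
    exact (by decide : ∀ c : ZMod 3, c + c - -c = 0) c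
  · rw [map_sub, hB, polB_self, hu]
    exact (by decide : ∀ c : ZMod 3, -c - 2 * c = 0) c
  · rw [add_sub_cancel]
    exact hv'.symm

/-- G7. A singular point fixed by all Siegel transformations at `r` fixing `x` and `y` is `r`. -/
theorem siegel_unique (hQ : (polB Q).Nondegenerate) (h5 : 5 ≤ Module.finrank (ZMod 3) V)
    (hc : c ≠ 0) {x y r r' : V} (hx : Q x = c) (hy : Q y = c) (hxy : polB Q x y = 0)
    (hr : Sg Q r) (hxr : polB Q x r = 0) (hyr : polB Q y r = 0) (hr' : Sg Q r')
    (hxr' : polB Q x r' = 0) (hyr' : polB Q y r' = 0)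
    (hfix : ∀ v, Q v ≠ 0 → polB Q x v = 0 → polB Q y v = 0 → polB Q r v = 0 →
      PM r' ((refl Q v * refl Q (v + r)).1 r')) : PM r r' := by
  by_contra hPM
  have hkey : ∀ v, Q v ≠ 0 → polB Q x v = 0 → polB Q y v = 0 → polB Q r v = 0 →
      polB Q r' v = 0 := by
    intro v hv hxv hyv hrv
    set a := Q v with ha
    set g := polB Q r' r with hg
    set b := polB Q r' v with hb
    have hw : Q (v + r) = a := by rw [qmap_add, hr.2, polB_comm, hrv, add_zero, add_zero]
    have hwv : polB Q (v + r) v = 2 * a := by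
      rw [map_add, LinearMap.add_apply, polB_self, hrv, add_zero]
    have himg : (refl Q v * refl Q (v + r)).1 r' = r' - (a * (b + g)) • r + (a * g) • v := by
      rw [orth_mul_apply, refl_apply (v + r) r', hw, map_sub, map_smul, refl_apply v r',
        refl_apply v (v + r), hwv, map_add (polB Q r'), ← hb, ← hg, ← ha,
        H99.ReflThree.zmod_inv_self a hv]
      have haa : a * a = 1 := H99.ReflThree.zmod_sq_one a hv
      match_scalars
      all_goals
        first
        | ring1
        | (clear_value a b g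
           clear * - haa
           revert a b g
           decide)
    have h := hfix v hv hxv hyv hrv
    rw [himg] at h
    rcases h with h | h
    · have h0 : (a * g) • v = (a * (b + g)) • r := by
        rw [← sub_eq_zero]
        linear_combination (norm := module) h
      have hg0 : g = 0 := by
        have := congrArg (fun z => polB Q v z) h0
        simp only [map_smul, smul_eq_mul, polB_self, polB_comm v r, hrv, mul_zero] at this
        exact (mul_eq_zero.1 ((mul_eq_zero.1 this).resolve_right (mul_ne_zero z3_two hv))).resolve_left hv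
      rw [hg0, mul_zero, zero_smul, add_zero] at h0
      exact (mul_eq_zero.1 ((smul_eq_zero.1 h0.symm).resolve_right hr.1)).resolve_left hv
    · have h0 : r' = (-(a * (b + g))) • r + (a * g) • v + (3 : ZMod 3) • r' := by
        linear_combination (norm := module) -(1 : ZMod 3) • h
      rw [show (3 : ZMod 3) = 0 from rfl, zero_smul, add_zero] at h0
      have hg0 : g = 0 := by
        have h2 := hr'.2
        rw [h0, qmap_add, qmap_smul, qmap_smul, hr.2, map_smul, map_smul, LinearMap.smul_apply,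
          hrv, mul_zero, smul_zero, smul_zero, zero_add, add_zero] at h2
        have := mul_self_eq_zero.1 ((mul_eq_zero.1 h2).resolve_right hv)
        exact (mul_eq_zero.1 this).resolve_left hv
      rw [hg0, mul_zero, zero_smul, add_zero] at h0
      exfalso
      apply hPM
      rw [h0]
      exact pm_smul r fun hz => hr'.1 (by rw [h0, hz, zero_smul])
  have H : Frame Q ({x, y, r} : Set V) r 3 := (frame_xr (hy ▸ hc) hyr).add (hx ▸ hc) (by
    intro z hz
    rcases hz with rfl | hz
    · rw [polB_comm]; exact hxy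
    · rw [Set.mem_singleton_iff.1 hz, polB_comm]; exact hxr)
  obtain ⟨v0, hv0, hq0⟩ := H.exists_aniso hQ (by omega)
  have hmem : r' ∈ Submodule.span (ZMod 3) ({x, y, r} : Set V) := by
    by_contra hno
    obtain ⟨z, hz, hrz⟩ := exists_orth_polB_eq hQ hno 1
    have hz' : ∀ w ∈ ({x, y, r} : Set V), polB Q w z = 0 :=
      fun w hw => hz w (Submodule.subset_span hw)
    have k0 := hkey v0 hq0 (hv0 x (by simp)) (hv0 y (by simp)) (hv0 r (by simp))
    have hall : ∀ w, (∀ u ∈ ({x, y, r} : Set V), polB Q u w = 0) → Q w ≠ 0 → polB Q r' w = 0 :=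
      fun w hw hq => hkey w hq (hw x (by simp)) (hw y (by simp)) (hw r (by simp))
    by_cases hqz : Q z = 0
    · rcases z3_pm (Q v0) (polB Q z v0) hq0 with h | h
      · have := hall (z + v0) (fun u hu => by rw [map_add, hz' u hu, hv0 u hu, add_zero])
          (by rw [qmap_add, hqz, zero_add]; exact h)
        rw [map_add, hrz, k0, add_zero] at this
        exact one_ne_zero this
      · have := hall (z - v0) (fun u hu => by rw [map_sub, hz' u hu, hv0 u hu, sub_zero])
          (by rw [qmap_sub, hqz, zero_add]; exact h)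
        rw [map_sub, hrz, k0, sub_zero] at this
        exact one_ne_zero this
    · have := hall z hz' hqz
      rw [hrz] at this
      exact one_ne_zero this
  obtain ⟨a, w, hw, hr'e⟩ := Submodule.mem_span_insert.1 hmem
  obtain ⟨b, d, rfl⟩ := Submodule.mem_span_pair.1 hw
  have ha : a = 0 := by
    have := hxr'
    rw [hr'e, map_add, map_add, map_smul, map_smul, map_smul, hxy, hxr, smul_zero, smul_zero,
      add_zero, add_zero, smul_eq_mul] at this
    exact (mul_eq_zero.1 this).resolve_right (polB_self_ne (hx ▸ hc))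
  have hb : b = 0 := by
    have := hyr'
    rw [hr'e, ha, zero_smul, zero_add, map_add, map_smul, map_smul, hyr, smul_zero, add_zero,
      smul_eq_mul] at this
    exact (mul_eq_zero.1 this).resolve_right (polB_self_ne (hy ▸ hc))
  rw [ha, hb, zero_smul, zero_smul, zero_add, zero_add] at hr'e
  exact hPM (hr'e ▸ pm_smul r fun h0 => hr'.1 (by rw [hr'e, h0, zero_smul]))

/-- G8. A singular vector not orthogonal to two given ones. -/
theorem exists_sg_nonorth_two (hQ : (polB Q).Nondegenerate) (h5 : 5 ≤ Module.finrank (ZMod 3) V)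
    {r p : V} (hr : Sg Q r) (hp : Sg Q p) :
    ∃ s, Sg Q s ∧ polB Q r s ≠ 0 ∧ polB Q p s ≠ 0 := by
  have hne : ∀ s, polB Q r s ≠ 0 → s ≠ 0 := fun s h h0 => h (by rw [h0, map_zero])
  have hrr : polB Q r r = 0 := by rw [polB_self, hr.2, mul_zero]
  have hbot : r ∉ (⊥ : Submodule (ZMod 3) V) := fun h => hr.1 ((Submodule.mem_bot _).1 h)
  by_cases hmem : p ∈ (ZMod 3) ∙ r
  · obtain ⟨b, rfl⟩ := Submodule.mem_span_singleton.1 hmem
    obtain ⟨y, -, hry⟩ := exists_orth_polB_eq hQ hbot 1
    have h1 : polB Q r (y + (-Q y) • r) = 1 := by rw [map_add, map_smul, hry, hrr, smul_zero, add_zero]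
    refine ⟨y + (-Q y) • r, ⟨hne _ (by rw [h1]; exact one_ne_zero), ?_⟩,
      by rw [h1]; exact one_ne_zero, ?_⟩
    · rw [qmap_add_smul, hr.2, polB_comm y, hry]; ring
    · rw [map_smul, LinearMap.smul_apply, h1, smul_eq_mul, mul_one]
      exact fun hb => hp.1 (by rw [hb, zero_smul])
  by_cases ht : polB Q r p = 0
  · obtain ⟨y1, hy1, hpy1⟩ := exists_orth_polB_eq hQ hmem 1
    have hrp : r ∉ (ZMod 3) ∙ p := fun h => by
      obtain ⟨b, hb⟩ := Submodule.mem_span_singleton.1 h
      have hb0 : b ≠ 0 := fun h0 => hr.1 (by rw [← hb, h0, zero_smul])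
      exact hmem (Submodule.mem_span_singleton.2 ⟨b, by
        rw [← hb, smul_smul, H99.ReflThree.zmod_sq_one b hb0, one_smul]⟩)
    obtain ⟨y2, hy2, hry2⟩ := exists_orth_polB_eq hQ hrp 1
    have hry1 := hy1 r (Submodule.mem_span_singleton_self r)
    have hpy2 := hy2 p (Submodule.mem_span_singleton_self p)
    set y := y1 + y2 with hy
    have hry : polB Q r y = 1 := by rw [hy, map_add, hry1, hry2, zero_add]
    have hpy : polB Q p y = 1 := by rw [hy, map_add, hpy1, hpy2, add_zero]
    have h1 : polB Q r (y + (-Q y) • r) = 1 := by rw [map_add, map_smul, hry, hrr, smul_zero, add_zero]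
    refine ⟨y + (-Q y) • r, ⟨hne _ (by rw [h1]; exact one_ne_zero), ?_⟩,
      by rw [h1]; exact one_ne_zero, ?_⟩
    · rw [qmap_add_smul, hr.2, polB_comm y, hry]; ring
    · rw [map_add, map_smul, hpy, polB_comm p, ht, smul_zero, add_zero]
      exact one_ne_zero
  · have hF : Frame Q ({r, p} : Set V) 0 2 := by
      refine ⟨?_, fun z hz hzp => ?_⟩
      · classical
        have := finrank_span_finset_le_card (R := ZMod 3) ({r, p} : Finset V)
        rw [Set.finrank, Finset.coe_insert, Finset.coe_singleton] at this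
        exact this.trans Finset.card_le_two
      · obtain ⟨a, b, rfl⟩ := Submodule.mem_span_pair.1 hz
        have hb : b = 0 := by
          have := hzp r (by simp)
          rw [map_add, map_smul, map_smul, hrr, smul_zero, zero_add, smul_eq_mul] at this
          exact (mul_eq_zero.1 this).resolve_right ht
        have ha : a = 0 := by
          have := hzp p (by simp)
          rw [hb, zero_smul, add_zero, map_smul, smul_eq_mul, polB_comm] at this
          exact (mul_eq_zero.1 this).resolve_right ht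
        rw [ha, hb]; simp
    obtain ⟨f, hf, hfq⟩ := hF.exists_aniso hQ (by omega)
    have hrf := hf r (by simp)
    have hpf := hf p (by simp)
    set t := polB Q r p
    have h1 : polB Q r (r + (-(t * Q f)) • p + f) = -(t * Q f) * t := by
      rw [map_add, map_add, map_smul, hrr, hrf, smul_eq_mul, zero_add, add_zero]
    have h1' : polB Q r (r + (-(t * Q f)) • p + f) ≠ 0 := by
      rw [h1]; exact mul_ne_zero (neg_ne_zero.2 (mul_ne_zero ht hfq)) ht
    refine ⟨r + (-(t * Q f)) • p + f, ⟨hne _ h1', ?_⟩, h1', ?_⟩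
    · rw [qmap_add, qmap_add_smul, hr.2, hp.2, map_add, map_smul, LinearMap.add_apply,
        LinearMap.smul_apply, hrf, hpf, smul_zero]
      linear_combination -(Q f) * (H99.ReflThree.zmod_sq_one t ht)
    · rw [map_add, map_add, map_smul, hpf, polB_self, hp.2, polB_comm p r]
      simpa using ht

/-- G9. A singular vector not orthogonal to three given ones, two of them non-orthogonal. -/
theorem exists_sg_nonorth_three (hQ : (polB Q).Nondegenerate) (h5 : 5 ≤ Module.finrank (ZMod 3) V)
    {r p q : V} (hr : Sg Q r) (hp : Sg Q p) (hq : Sg Q q) (hpq : polB Q p q ≠ 0) :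
    ∃ s, Sg Q s ∧ polB Q r s ≠ 0 ∧ polB Q p s ≠ 0 ∧ polB Q q s ≠ 0 := by
  set t := polB Q p q with ht
  have hpp : polB Q p p = 0 := by rw [polB_self, hp.2, mul_zero]
  have hqq : polB Q q q = 0 := by rw [polB_self, hq.2, mul_zero]
  have hqp : polB Q q p = t := polB_comm q p
  have hF : Frame Q ({p, q} : Set V) 0 2 := by
    refine ⟨?_, fun z hz hzp => ?_⟩
    · classical
      have := finrank_span_finset_le_card (R := ZMod 3) ({p, q} : Finset V)
      rw [Set.finrank, Finset.coe_insert, Finset.coe_singleton] at this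
      exact this.trans Finset.card_le_two
    · obtain ⟨a, b, rfl⟩ := Submodule.mem_span_pair.1 hz
      have h1 := hzp p (by simp)
      have h2 := hzp q (by simp)
      rw [map_add, map_smul, map_smul, hpp, smul_zero, zero_add, smul_eq_mul] at h1
      rw [map_add, map_smul, map_smul, hqq, smul_zero, add_zero, smul_eq_mul, hqp] at h2
      rw [(mul_eq_zero.1 h1).resolve_right hpq, (mul_eq_zero.1 h2).resolve_right hpq]
      simp
  obtain ⟨f0, hf0, hq0⟩ := hF.exists_aniso hQ (by omega)
  have main : ∀ f, (∀ y ∈ ({p, q} : Set V), polB Q y f = 0) → Q f ≠ 0 →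
      polB Q r p + (-(t * Q f)) * polB Q r q + polB Q r f ≠ 0 →
      ∃ s, Sg Q s ∧ polB Q r s ≠ 0 ∧ polB Q p s ≠ 0 ∧ polB Q q s ≠ 0 := by
    intro f hf hfq hsum
    have hpf := hf p (by simp)
    have hqf := hf q (by simp)
    have h2 : polB Q p (p + (-(t * Q f)) • q + f) ≠ 0 := by
      rw [map_add, map_add, map_smul, hpp, hpf, smul_eq_mul, zero_add, add_zero]
      exact mul_ne_zero (neg_ne_zero.2 (mul_ne_zero hpq hfq)) hpq
    refine ⟨p + (-(t * Q f)) • q + f, ⟨fun h0 => h2 (by rw [h0, map_zero]), ?_⟩, ?_, h2, ?_⟩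
    · rw [qmap_add, qmap_add_smul, hp.2, hq.2, map_add, map_smul, LinearMap.add_apply,
        LinearMap.smul_apply, hpf, hqf, smul_zero]
      linear_combination -(Q f) * (H99.ReflThree.zmod_sq_one t hpq)
    · rw [map_add, map_add, map_smul, smul_eq_mul]; exact hsum
    · rw [map_add, map_add, map_smul, hqq, hqf, hqp]
      simpa using hpq
  by_cases hmem : r ∈ Submodule.span (ZMod 3) ({p, q} : Set V)
  · refine main f0 hf0 hq0 ?_
    obtain ⟨a, b, rfl⟩ := Submodule.mem_span_pair.1 hmem
    have h2 := hr.2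
    rw [qmap_add_smul, qmap_smul, hp.2, hq.2, map_smul, LinearMap.smul_apply, ← ht] at h2
    simp only [map_add, map_smul, LinearMap.add_apply, LinearMap.smul_apply, smul_eq_mul, hpp, hqq,
      hqp, ← ht, hf0 p (by simp), hf0 q (by simp)] at h2 ⊢
    have hnz : a ≠ 0 ∨ b ≠ 0 := by
      by_contra hh
      push Not at hh
      exact hr.1 (by rw [hh.1, hh.2]; simp)
    have haux : ∀ a b t u : ZMod 3, t ≠ 0 → u ≠ 0 → (a ≠ 0 ∨ b ≠ 0) →
        a * a * 0 + b * b * 0 + b * (a * t) = 0 →
        a * 0 + b * t + -(t * u) * (a * t + b * 0) + (a * 0 + b * 0) ≠ 0 := by decide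
    exact haux a b t (Q f0) hpq hq0 hnz h2
  · obtain ⟨f, hf, hfq, hrf⟩ := exists_aniso_with hQ hmem hf0 hq0
    rcases z3_pm' (polB Q r p + (-(t * Q f)) * polB Q r q) (polB Q r f) hrf with h | h
    · exact main f hf hfq h
    · refine main (-f) (fun y hy => by rw [map_neg, hf y hy, neg_zero]) (by rwa [qmap_neg]) ?_
      rw [qmap_neg, map_neg, ← sub_eq_add_neg]
      exact h

/-- G10. A singular vector not orthogonal to the four corners of a quadrangle. -/
theorem exists_sg_nonorth_four (hQ : (polB Q).Nondegenerate) (h5 : 5 ≤ Module.finrank (ZMod 3) V)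
    {r p u v : V} (hr : Sg Q r) (hp : Sg Q p) (hu : Sg Q u) (hv : Sg Q v) (hrp : polB Q r p = 0)
    (huv : polB Q u v = 0) (h1 : polB Q r u ≠ 0) (h2 : polB Q r v ≠ 0) (h3 : polB Q p u ≠ 0)
    (h4 : polB Q p v ≠ 0) :
    ∃ s, Sg Q s ∧ polB Q r s ≠ 0 ∧ polB Q p s ≠ 0 ∧ polB Q u s ≠ 0 ∧ polB Q v s ≠ 0 := by
  have hrr : polB Q r r = 0 := by rw [polB_self, hr.2, mul_zero]
  have hpp : polB Q p p = 0 := by rw [polB_self, hp.2, mul_zero]
  have huu : polB Q u u = 0 := by rw [polB_self, hu.2, mul_zero]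
  have hur : polB Q u r = polB Q r u := polB_comm u r
  have hup : polB Q u p = polB Q p u := polB_comm u p
  have hpr : polB Q p r = 0 := by rw [polB_comm, hrp]
  have hF : Frame Q ({r, p, u} : Set V) (r + (-(polB Q r u * polB Q p u)) • p) 3 := by
    refine ⟨?_, fun z hz hzp => ?_⟩
    · classical
      have := finrank_span_finset_le_card (R := ZMod 3) ({r, p, u} : Finset V)
      rw [Set.finrank, Finset.coe_insert, Finset.coe_insert, Finset.coe_singleton] at this
      exact this.trans Finset.card_le_three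
    · obtain ⟨a, w, hw, rfl⟩ := Submodule.mem_span_insert.1 hz
      obtain ⟨b, d, rfl⟩ := Submodule.mem_span_pair.1 hw
      have e1 := hzp r (by simp)
      simp only [map_add, map_smul, smul_eq_mul, hrr, hrp, mul_zero, zero_add] at e1
      have hd : d = 0 := (mul_eq_zero.1 e1).resolve_right h1
      have e2 := hzp u (by simp)
      simp only [map_add, map_smul, smul_eq_mul, huu, hur, hup, mul_zero, add_zero] at e2
      have hb : b = a * -(polB Q r u * polB Q p u) :=
        (by decide : ∀ a b s t : ZMod 3, t ≠ 0 → a * s + b * t = 0 → b = a * -(s * t))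
          a b _ _ h3 e2
      refine Submodule.mem_span_singleton.2 ⟨a, ?_⟩
      rw [hd, zero_smul, add_zero, hb, smul_add, smul_smul]
  obtain ⟨f, hf, hfq⟩ := hF.exists_aniso hQ (by omega)
  have main : ∀ f, (∀ y ∈ ({r, p, u} : Set V), polB Q y f = 0) → Q f ≠ 0 →
      (-(polB Q r u * Q f)) * polB Q r v + polB Q v f ≠ 0 →
      ∃ s, Sg Q s ∧ polB Q r s ≠ 0 ∧ polB Q p s ≠ 0 ∧ polB Q u s ≠ 0 ∧ polB Q v s ≠ 0 := by
    intro f hf hfq hsum
    have hrf := hf r (by simp)
    have hpf := hf p (by simp)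
    have huf := hf u (by simp)
    set s := u + (-(polB Q r u * Q f)) • r + f with hs
    have e1 : polB Q r s = polB Q r u := by simp [hs, hrr, hrf]
    refine ⟨s, ⟨fun h0 => h1 (by rw [← e1, h0, map_zero]), ?_⟩, by rw [e1]; exact h1, ?_, ?_, ?_⟩
    · rw [hs, qmap_add, qmap_add_smul, hu.2, hr.2, map_add, map_smul, LinearMap.add_apply,
        LinearMap.smul_apply, huf, hrf, hur, smul_zero]
      linear_combination -(Q f) * (H99.ReflThree.zmod_sq_one _ h1)
    · simpa [hs, hpr, hpf] using h3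
    · simp only [hs, map_add, map_smul, huu, huf, hur, smul_eq_mul, zero_add, add_zero]
      exact mul_ne_zero (neg_ne_zero.2 (mul_ne_zero h1 hfq)) h1
    · simp only [hs, map_add, map_smul, polB_comm v u, huv, polB_comm v r, smul_eq_mul, zero_add]
      exact hsum
  rcases z3_pm ((-(polB Q r u * Q f)) * polB Q r v) (polB Q v f)
      (mul_ne_zero (neg_ne_zero.2 (mul_ne_zero h1 hfq)) h2) with h | h
  · exact main f hf hfq h
  · refine main (-f) (fun y hy => by rw [map_neg, hf y hy, neg_zero]) (by rwa [qmap_neg]) ?_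
    rw [qmap_neg, map_neg, ← sub_eq_add_neg]
    exact h

/-- G11. A point orthogonal to the common perp of a line lies on it. -/
theorem mem_line_of_perp (hQ : (polB Q).Nondegenerate) (h6 : 6 ≤ Module.finrank (ZMod 3) V)
    (hc : c ≠ 0) {x r m : V} (hx : Q x = c) (hr : Sg Q r) (hxr : polB Q x r = 0) (hm : Q m = c)
    (h : ∀ p, Q p = c → polB Q x p = 0 → polB Q r p = 0 → polB Q p m = 0) :
    PM m x ∨ PM m (x + r) ∨ PM m (x - r) := by
  by_cases hmem : m ∈ Submodule.span (ZMod 3) ({x, r} : Set V)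
  · obtain ⟨a, b, rfl⟩ := Submodule.mem_span_pair.1 hmem
    have ha : a ≠ 0 := by
      intro h0
      rw [h0, zero_smul, zero_add, qmap_smul, hr.2, mul_zero] at hm
      exact hc hm.symm
    have hsc : PM (a • x + b • r) (x + (a * b) • r) := by
      rw [show x + (a * b) • r = a • (a • x + b • r) by
        rw [smul_add, smul_smul, smul_smul, H99.ReflThree.zmod_sq_one a ha, one_smul]]
      exact pm_smul _ ha
    rcases (by decide : ∀ t : ZMod 3, t = 0 ∨ t = 1 ∨ t = -1) (a * b) with e | e | e <;>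
      rw [e] at hsc
    · rw [zero_smul, add_zero] at hsc
      exact Or.inl hsc
    · rw [one_smul] at hsc
      exact Or.inr (Or.inl hsc)
    · rw [neg_one_smul, ← sub_eq_add_neg] at hsc
      exact Or.inr (Or.inr hsc)
  · obtain ⟨p, hp, hpc, hmp⟩ := (frame_xr (hx ▸ hc) hxr).exists_point_with hQ hc (by omega) hmem
    exact absurd (by rw [polB_comm]; exact h p hpc (hp x (by simp)) (hp r (by simp))) hmp

/-- G12. Two different points are separated by a third one. -/
theorem exists_point_sep (hQ : (polB Q).Nondegenerate) (h5 : 5 ≤ Module.finrank (ZMod 3) V)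
    (hc : c ≠ 0) {u v : V} (hu : Q u = c) (hv : Q v = c) (hne : ¬ PM u v) :
    ∃ p, Q p = c ∧ polB Q v p = 0 ∧ polB Q u p ≠ 0 ∧ ¬ PM u p := by
  by_cases huv : polB Q u v = 0
  · have hdim : 3 ≤ Module.finrank (ZMod 3)
        ((polB Q).orthogonal (Submodule.span (ZMod 3) {u, v})) := by
      have := finrank_orth_pair hQ u v
      omega
    obtain ⟨z, hz, hz0, hzq⟩ := exists_singular_in (Q := Q) _ hdim
    obtain ⟨huz, hvz⟩ := mem_orth_pair.1 hz
    refine ⟨u + z, by rw [qmap_add, hu, hzq, huz, add_zero, add_zero],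
      by rw [map_add, polB_comm v u, huv, hvz, add_zero],
      by rw [map_add, huz, add_zero]; exact polB_self_ne (hu ▸ hc), ?_⟩
    rintro (h | h)
    · exact hz0 (by simpa using h)
    · have hz' : z = (-2 : ZMod 3) • u := by
        rw [show z = (u + z) - u by abel, h]; module
      rw [hz', qmap_smul, hu] at hzq
      exact hc ((mul_eq_zero.1 hzq).resolve_left (by decide))
  · have hmem : u ∉ Submodule.span (ZMod 3) ({v} : Set V) := fun hmem => by
      obtain ⟨b, hb⟩ := Submodule.mem_span_singleton.1 hmem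
      refine hne (PM.symm ?_)
      rw [← hb]
      exact pm_smul v fun h0 => by
        rw [← hb, h0, zero_smul, QuadraticMap.map_zero] at hu
        exact hc hu.symm
    obtain ⟨p, hp, hpc, hup⟩ := (frame_x (hv ▸ hc)).exists_point_with hQ hc (by omega) hmem
    have hvp := hp v rfl
    refine ⟨p, hpc, hvp, hup, fun h => huv ?_⟩
    rw [polB_comm]
    exact (h.symm.polB_eq_zero v).2 hvp

end H20.FischerO3
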