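/-
The members not commuting with `d` seen from a partner `x` of `d`: each pair `a, d a d` commuting
with `x` is a singular point orthogonal to `x`.
-/
import Cfsg.Agent.H20.FischerO3.Geom
import Cfsg.Agent.H99.TTFischer

set_option autoImplicit false
set_option linter.unusedSectionVars false

namespace H20.FischerO3

open Cfsg H43

variable {V : Type*} [AddCommGroup V] [Module (ZMod 3) V] [FiniteDimensional (ZMod 3) V]
variable {Q : QuadraticForm (ZMod 3) V} {c : ZMod 3}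
variable {G : Type*} [Group G]

lemma z3_two : (2 : ZMod 3) ≠ 0 := by decide

lemma z3_two_mul (k : ZMod 3) : 2 * k = -k := by revert k; decide

lemma not_pm_self_add {u r : V} (hr : Sg Q r) (hu : Q u ≠ 0) : ¬ PM u (u + r) := by
  rintro (h | h)
  · exact hr.1 (by simpa using h)
  · have h2 : r = (-2 : ZMod 3) • u := by
      rw [neg_smul, two_smul, eq_comm]
      have h' : r = -u - u := by rw [← h]; abel
      rw [h']; abel
    have h3 := hr.2
    rw [h2, qmap_smul] at h3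
    exact hu ((mul_eq_zero.1 h3).resolve_left (by decide))

lemma qmap_add_sg {u r : V} (hr : Sg Q r) (hur : polB Q u r = 0) : Q (u + r) = Q u := by
  rw [qmap_add, hr.2, hur, add_zero, add_zero]

lemma qmap_sub_sg {u r : V} (hr : Sg Q r) (hur : polB Q u r = 0) : Q (u - r) = Q u := by
  rw [qmap_sub, hr.2, hur, add_zero, sub_zero]

/-- The third point of a degenerate line. -/
lemma refl_line {u r : V} (hu : Q u ≠ 0) (hur : polB Q u r = 0) :
    PM (u - r) ((refl Q u).1 (u + r)) := by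
  right
  rw [map_add, refl_self hu, refl_fix (show polB Q r u = 0 by rwa [polB_comm])]
  abel

lemma Chart.orth_iff {E : Set G} {φ : G → V} (h : Chart Q c E φ) (hc : c ≠ 0) {p q : G}
    (hp : p ∈ E) (hq : q ∈ E) : polB Q (φ p) (φ q) = 0 ↔ p ≠ q ∧ Commute p q := by
  constructor
  · intro h0
    have hne : p ≠ q := by
      rintro rfl
      rw [polB_self, h.val p hp] at h0
      exact mul_ne_zero z3_two hc h0
    exact ⟨hne, (h.comm p hp q hq hne).2 h0⟩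
  · exact fun ⟨h1, h2⟩ => (h.comm p hp q hq h1).1 h2

/-- The part orthogonal to one point of a chart. -/
structure SubChart (Q : QuadraticForm (ZMod 3) V) (c : ZMod 3) (u : V) (S : Set G) (ψ : G → V) :
    Prop where
  hu : Q u = c
  val : ∀ p ∈ S, Q (ψ p) = c
  perp : ∀ p ∈ S, polB Q u (ψ p) = 0
  inj : ∀ p ∈ S, ∀ q ∈ S, PM (ψ p) (ψ q) → p = q
  surj : ∀ v, Q v = c → polB Q u v = 0 → ∃ p ∈ S, PM v (ψ p)
  orth : ∀ p ∈ S, ∀ q ∈ S, (polB Q (ψ p) (ψ q) = 0 ↔ p ≠ q ∧ Commute p q)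
  conj : ∀ p ∈ S, ∀ q ∈ S, p * q * p ∈ S ∧ PM ((refl Q (ψ p)).1 (ψ q)) (ψ (p * q * p))

lemma Chart.sub {D E : Set G} {φ : G → V} (h : Chart Q c E φ) (hc : c ≠ 0) (hED : E ⊆ D)
    {x : G} (hx : x ∈ E) : SubChart Q c (φ x) (E ∩ H99.perp D x) φ := by
  have hperp : ∀ p ∈ E ∩ H99.perp D x, polB Q (φ x) (φ p) = 0 := fun p hp =>
    (h.orth_iff hc hx hp.1).2 ⟨fun e => hp.2.2.1 e.symm, hp.2.2.2⟩
  refine ⟨h.val x hx, fun p hp => h.val p hp.1, hperp,
    fun p hp q hq => h.inj p hp.1 q hq.1, fun v hv hxv => ?_,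
    fun p hp q hq => h.orth_iff hc hp.1 hq.1, fun p hp q hq => ?_⟩
  · obtain ⟨p, hp, hpv⟩ := h.surj v hv
    obtain ⟨hne, hcm⟩ := (h.orth_iff hc hx hp).1 ((hpv.polB_eq_zero _).2 hxv)
    exact ⟨p, ⟨hp, hED hp, fun e => hne e.symm, hcm⟩, hpv⟩
  · obtain ⟨hm, hpm⟩ := h.conj p hp.1 q hq.1
    refine ⟨⟨hm, ?_⟩, hpm⟩
    have hpx : polB Q (φ x) (φ (p * q * p)) = 0 := by
      rw [hpm.polB_eq_zero, refl_apply, map_sub, map_smul, hperp p hp, hperp q hq, smul_zero,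
        sub_zero]
    obtain ⟨hne, hcm⟩ := (h.orth_iff hc hx hm).1 hpx
    exact ⟨hED hm, fun e => hne e.symm, hcm⟩

/-- The sets of points orthogonal to a singular point correspond under two charts. -/
lemma transport (hQ : (polB Q).Nondegenerate) (h5 : 5 ≤ Module.finrank (ZMod 3) V) (hc : c ≠ 0)
    {S : Set G} {u u' : V} {ψ ψ' : G → V} (h : SubChart Q c u S ψ) (h' : SubChart Q c u' S ψ')
    {r : V} (hr : Sg Q r) (hur : polB Q u r = 0) :
    ∃ r', Sg Q r' ∧ polB Q u' r' = 0 ∧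
      ∀ p ∈ S, polB Q (ψ p) r = 0 ↔ polB Q (ψ' p) r' = 0 := by
  obtain ⟨e, he, hue, hre⟩ := exists_point_sg hQ h5 hc h.hu hr hur
  obtain ⟨e0, he0, hpe0⟩ := h.surj e he hue
  set w := ψ e0 with hw
  have hwc : Q w = c := h.val e0 he0
  have hwr : polB Q w r = 0 := by rw [hpe0.polB_eq_zero', polB_comm]; exact hre
  have hw1 : Q (w + r) = c := by rw [qmap_add_sg hr hwr, hwc]
  obtain ⟨e1, he1, hpe1⟩ := h.surj (w + r) hw1 (by rw [map_add, h.perp e0 he0, hur, add_zero])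
  obtain ⟨he2, hpe2⟩ := h.conj e0 he0 e1 he1
  set e2 := e0 * e1 * e0
  have hpe2' : PM (w - r) (ψ e2) :=
    ((refl_line (hwc ▸ hc) hwr).trans (hpe1.orth (refl Q w))).trans hpe2
  have hne : e0 ≠ e1 := fun e =>
    not_pm_self_add hr (hwc ▸ hc) (by have := hpe1.symm; rw [← e] at this; exact this)
  have hnc : ¬ Commute e0 e1 := fun hcm => by
    have h0 := ((h.orth e0 he0 e1 he1).2 ⟨hne, hcm⟩)
    rw [hpe1.polB_eq_zero, map_add, hwr, add_zero, polB_self, hwc] at h0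
    exact mul_ne_zero z3_two hc h0
  obtain ⟨r', hr', hr'0, hpm⟩ := line_of_nonorth hc (h'.val e0 he0) (h'.val e1 he1)
    (fun hp => hne (h'.inj e0 he0 e1 he1 hp))
    (fun h0 => hnc ((h'.orth e0 he0 e1 he1).1 h0).2)
  set w' := ψ' e0
  have hpm2 : PM (w' - r') (ψ' e2) :=
    ((refl_line ((h'.val e0 he0).symm ▸ hc) hr'0).trans (hpm.orth (refl Q w'))).trans
      (h'.conj e0 he0 e1 he1).2
  have hu'r' : polB Q u' r' = 0 := by
    have h1 := (hpm.polB_eq_zero u').1 (h'.perp e1 he1)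
    rwa [map_add, h'.perp e0 he0, zero_add] at h1
  refine ⟨r', hr', hu'r', fun p hp => ?_⟩
  have key : ∀ q ∈ S, polB Q (ψ p) (ψ q) = 0 ↔ polB Q (ψ' p) (ψ' q) = 0 := fun q hq => by
    rw [h.orth p hp q hq, h'.orth p hp q hq]
  rw [line_iff hwr, line_iff hr'0, ← hpe1.polB_eq_zero, ← hpe2'.polB_eq_zero,
    ← hpm.polB_eq_zero, ← hpm2.polB_eq_zero, key e0 he0, key e1 he1, key e2 he2]

namespace Ctx

variable {D : Set G} {d : G} {φ : G → V} (h : Ctx Q c D d φ)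
include h

lemma tt : IsThreeTranspositionSet D := h.cls.1

lemma dconj (g : G) {y : G} (hy : y ∈ D) : g * y * g⁻¹ ∈ D := H99.class_conj_mem h.cls g hy

lemma sq {y : G} (hy : y ∈ D) : y * y = 1 := H99.tt_mul_self h.tt hy

lemma inv_eq {y : G} (hy : y ∈ D) : y⁻¹ = y := H99.tt_inv h.tt hy

lemma conj' {y z : G} (hy : y ∈ D) (hz : z ∈ D) : y * z * y ∈ D := by
  have := h.dconj y hz
  rwa [h.inv_eq hy] at this

/-- Every member has a chart on its partners. -/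
lemma chartAt {x : G} (hx : x ∈ D) : ∃ χ : G → V, Chart Q c (H99.perp D x) χ := by
  obtain ⟨g, rfl⟩ := H99.class_isConj h.cls h.mem hx
  have hmem : ∀ y ∈ H99.perp D (g * d * g⁻¹), g⁻¹ * y * g ∈ H99.perp D d := fun y hy => by
    have := H99.perp_conj (fun g _ hd => h.dconj g hd) g⁻¹ hy
    simpa [mul_assoc] using this
  have hcm : ∀ a b : G, Commute (g⁻¹ * a * g) (g⁻¹ * b * g) ↔ Commute a b := fun a b => by
    simpa using H99.conj_commute_iff g⁻¹ a b
  refine ⟨fun y => φ (g⁻¹ * y * g), ⟨fun y hy => h.chart.val _ (hmem y hy),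
    fun y hy z hz e => by simpa using h.chart.inj _ (hmem y hy) _ (hmem z hz) e,
    fun v hv => ?_, fun y hy z hz hne => ?_, fun y hy z hz => ?_⟩⟩
  · obtain ⟨y, hy, hp⟩ := h.chart.surj v hv
    refine ⟨g * y * g⁻¹, H99.perp_conj (fun g _ hd => h.dconj g hd) g hy, ?_⟩
    simpa [mul_assoc] using hp
  · rw [← hcm y z]
    exact h.chart.comm _ (hmem y hy) _ (hmem z hz) (by simpa using hne)
  · obtain ⟨h1, h2⟩ := h.chart.conj _ (hmem y hy) _ (hmem z hz)
    rw [show g⁻¹ * y * g * (g⁻¹ * z * g) * (g⁻¹ * y * g) = g⁻¹ * (y * z * y) * g by group]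
      at h1 h2
    refine ⟨?_, h2⟩
    have := H99.perp_conj (fun g _ hd => h.dconj g hd) g h1
    simpa [mul_assoc] using this

lemma mem_perp_symm {x : G} (hx : x ∈ H99.perp D d) : d ∈ H99.perp D x :=
  ⟨h.mem, fun e => hx.2.1 e.symm, hx.2.2.symm⟩

lemma far_flip {a : G} (ha : a ∈ far D d) : d * a * d ∈ far D d := by
  refine ⟨h.conj' h.mem ha.1, fun hc => ha.2 ?_⟩
  have h1 := (H99.conj_commute_iff d d (d * a * d)).2 hc
  rw [h.inv_eq h.mem, h.sq h.mem, one_mul,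
    show d * (d * a * d) * d = d * d * a * (d * d) by group, h.sq h.mem, one_mul, mul_one] at h1
  exact h1

lemma commute_flip {p a : G} (hp : p ∈ H99.perp D d) :
    Commute p (d * a * d) ↔ Commute p a := by
  have h1 := H99.conj_commute_iff d p a
  rwa [hp.2.2.eq, mul_inv_cancel_right, h.inv_eq h.mem] at h1

lemma ne_far {p a : G} (hp : p ∈ H99.perp D d) (ha : a ∈ far D d) : p ≠ a :=
  fun e => ha.2 (e ▸ hp.2.2)

lemma ne_d_far {a : G} (ha : a ∈ far D d) : a ≠ d :=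
  fun e => ha.2 (e ▸ Commute.refl d)

lemma mem_perp_far {x a : G} (hx : x ∈ H99.perp D d) (ha : a ∈ far D d) (hxa : Commute x a) :
    a ∈ H99.perp D x :=
  ⟨ha.1, fun e => h.ne_far hx ha e.symm, hxa⟩

end Ctx

/-- Seen from `x`, the pair of `a` is the singular point `r`. -/
structure Rep (Q : QuadraticForm (ZMod 3) V) (D : Set G) (d : G) (φ : G → V) (x a : G) (r : V) :
    Prop where
  sg : Sg Q r
  perp : polB Q (φ x) r = 0
  mem : ∀ p ∈ H99.perp D d ∩ H99.perp D x, Commute p a ↔ polB Q (φ p) r = 0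

namespace Rep

variable {D : Set G} {d : G} {φ : G → V} {x a : G} {r r' : V}

lemma of_pm (hr : Rep Q D d φ x a r) (hp : PM r r') : Rep Q D d φ x a r' :=
  ⟨⟨by rcases hp with rfl | rfl
       · exact hr.sg.1
       · exact neg_ne_zero.2 hr.sg.1, hp.qmap.trans hr.sg.2⟩,
    (hp.polB_eq_zero _).2 hr.perp,
    fun p hp' => (hr.mem p hp').trans (hp.polB_eq_zero _).symm⟩

end Rep

namespace Ctx

variable {D : Set G} {d : G} {φ : G → V} (h : Ctx Q c D d φ)
include h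

lemma sub_perp {x : G} (hx : x ∈ H99.perp D d) :
    SubChart Q c (φ x) (H99.perp D d ∩ H99.perp D x) φ :=
  h.chart.sub h.cne (fun _ hy => hy.1) hx

lemma rep_unique {x a : G} {r r' : V} (hx : x ∈ H99.perp D d) (h1 : Rep Q D d φ x a r)
    (h2 : Rep Q D d φ x a r') : PM r r' := by
  refine sg_unique h.nd h.dim h.cne (h.chart.val x hx) h1.sg h1.perp h2.sg h2.perp
    fun p hp hxp hrp => ?_
  obtain ⟨q, hq, hpq⟩ := (h.sub_perp hx).surj p hp hxp
  have h0 : polB Q (φ q) r = 0 := by rw [hpq.polB_eq_zero', polB_comm]; exact hrp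
  have := (h2.mem q hq).1 ((h1.mem q hq).2 h0)
  rwa [hpq.polB_eq_zero', polB_comm] at this

lemma chart_pair {x : G} (hx : x ∈ H99.perp D d) {a : G} (ha : a ∈ far D d) (hxa : Commute x a)
    {χ : G → V} (hχ : Chart Q c (H99.perp D x) χ) :
    ∃ ρ, Sg Q ρ ∧ polB Q (χ d) ρ = 0 ∧ PM (χ d + ρ) (χ a) ∧
      PM (χ d - ρ) (χ (d * a * d)) ∧
      ∀ p ∈ H99.perp D d ∩ H99.perp D x, Commute p a ↔ polB Q (χ p) ρ = 0 := by
  have hd := h.mem_perp_symm hx
  have ha' := h.mem_perp_far hx ha hxa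
  obtain ⟨ρ, hρ, h0, hpm⟩ := line_of_nonorth h.cne (hχ.val d hd) (hχ.val a ha')
    (fun hp => h.ne_d_far ha (hχ.inj d hd a ha' hp).symm)
    (fun h0 => ha.2 ((hχ.orth_iff h.cne hd ha').1 h0).2)
  refine ⟨ρ, hρ, h0, hpm, ?_, fun p hp => ?_⟩
  · exact ((refl_line ((hχ.val d hd).symm ▸ h.cne) h0).trans (hpm.orth _)).trans
      (hχ.conj d hd a ha').2
  · have h1 := hχ.comm p hp.2 a ha' (h.ne_far hp.1 ha)
    have h2 : polB Q (χ p) (χ d) = 0 := (hχ.orth_iff h.cne hp.2 hd).2 ⟨hp.1.2.1, hp.1.2.2.symm⟩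
    rw [h1, hpm.polB_eq_zero, map_add, h2, zero_add]

lemma rep_exists {x : G} (hx : x ∈ H99.perp D d) {a : G} (ha : a ∈ far D d) (hxa : Commute x a) :
    ∃ r, Rep Q D d φ x a r := by
  obtain ⟨χ, hχ⟩ := h.chartAt hx.1
  obtain ⟨ρ, hρ, h0, -, -, hmem⟩ := h.chart_pair hx ha hxa hχ
  have hs := hχ.sub (D := D) h.cne (fun _ hy => hy.1) (h.mem_perp_symm hx)
  rw [Set.inter_comm] at hs
  obtain ⟨r, hr, hur, hiff⟩ := transport h.nd h.dim h.cne hs (h.sub_perp hx) hρ h0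
  exact ⟨r, hr, hur, fun p hp => (hmem p hp).trans (hiff p hp)⟩

lemma rep_flip {x a : G} {r : V} (hr : Rep Q D d φ x a r) : Rep Q D d φ x (d * a * d) r :=
  ⟨hr.sg, hr.perp, fun p hp => (h.commute_flip hp.1).trans (hr.mem p hp)⟩

lemma rep_inj {x : G} (hx : x ∈ H99.perp D d) {a a' : G} {r : V} (ha : a ∈ far D d)
    (hxa : Commute x a) (ha' : a' ∈ far D d) (hxa' : Commute x a') (h1 : Rep Q D d φ x a r)
    (h2 : Rep Q D d φ x a' r) : a' = a ∨ a' = d * a * d := by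
  obtain ⟨χ, hχ⟩ := h.chartAt hx.1
  obtain ⟨ρ, hρ, h0, hpa, hpb, hmem⟩ := h.chart_pair hx ha hxa hχ
  obtain ⟨ρ', hρ', h0', hpa', -, hmem'⟩ := h.chart_pair hx ha' hxa' hχ
  have hd := h.mem_perp_symm hx
  have hs := hχ.sub (D := D) h.cne (fun _ hy => hy.1) hd
  rw [Set.inter_comm] at hs
  have hpm : PM ρ ρ' := by
    refine sg_unique h.nd h.dim h.cne (hχ.val d hd) hρ h0 hρ' h0' fun p hp hdp hρp => ?_
    obtain ⟨q, hq, hpq⟩ := hs.surj p hp hdp
    have h3 : polB Q (χ q) ρ = 0 := by rw [hpq.polB_eq_zero', polB_comm]; exact hρp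
    have h4 := (hmem' q hq).1 ((h2.mem q hq).2 ((h1.mem q hq).1 ((hmem q hq).2 h3)))
    rwa [hpq.polB_eq_zero', polB_comm] at h4
  have hm := h.mem_perp_far hx ha hxa
  have hm' := h.mem_perp_far hx ha' hxa'
  have hmb := h.mem_perp_far hx (h.far_flip ha) ((h.commute_flip hx).2 hxa)
  rcases hpm with rfl | rfl
  · exact Or.inl (hχ.inj a hm a' hm' (hpa.symm.trans hpa')).symm
  · rw [← sub_eq_add_neg] at hpa'
    exact Or.inr (hχ.inj _ hmb a' hm' (hpb.symm.trans hpa')).symm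

lemma rep_surj {x : G} (hx : x ∈ H99.perp D d) {r : V} (hr : Sg Q r)
    (hxr : polB Q (φ x) r = 0) : ∃ a ∈ far D d, Commute x a ∧ Rep Q D d φ x a r := by
  obtain ⟨χ, hχ⟩ := h.chartAt hx.1
  have hd := h.mem_perp_symm hx
  have hs := hχ.sub (D := D) h.cne (fun _ hy => hy.1) hd
  rw [Set.inter_comm] at hs
  obtain ⟨ρ, hρ, h0, hiff⟩ := transport h.nd h.dim h.cne (h.sub_perp hx) hs hr hxr
  have hdc : Q (χ d) = c := hχ.val d hd
  obtain ⟨a, ha, hpa⟩ := hχ.surj (χ d + ρ) (by rw [qmap_add_sg hρ h0, hdc])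
  have hne : a ≠ d := fun e =>
    not_pm_self_add hρ (hdc.symm ▸ h.cne) (by simpa [e] using hpa.symm)
  have hnc : ¬ Commute d a := fun hcm => by
    have h1 := (hχ.orth_iff h.cne hd ha).2 ⟨fun e => hne e.symm, hcm⟩
    rw [hpa.polB_eq_zero, map_add, h0, add_zero, polB_self, hdc] at h1
    exact mul_ne_zero z3_two h.cne h1
  have hfa : a ∈ far D d := ⟨ha.1, hnc⟩
  refine ⟨a, hfa, ha.2.2, hr, hxr, fun p hp => ?_⟩
  have h1 := hχ.comm p hp.2 a ha (h.ne_far hp.1 hfa)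
  have h2 : polB Q (χ p) (χ d) = 0 := (hχ.orth_iff h.cne hp.2 hd).2 ⟨hp.1.2.1, hp.1.2.2.symm⟩
  rw [h1, hpa.polB_eq_zero, map_add, h2, zero_add, hiff p hp]

end Ctx

end H20.FischerO3
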