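/-
The pairs `a, d a d` of members not commuting with `d` are the singular points.
-/
import Cfsg.Agent.H20.FischerO3.Local

set_option autoImplicit false
set_option linter.unusedSectionVars false

namespace H20.FischerO3

open Cfsg H43

variable {V : Type*} [AddCommGroup V] [Module (ZMod 3) V] [FiniteDimensional (ZMod 3) V]
variable {Q : QuadraticForm (ZMod 3) V} {c : ZMod 3}
variable {G : Type*} [Group G]

lemma inv_mul_self_three {k : ZMod 3} (hk : k ≠ 0) : k⁻¹ = k :=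
  H99.ReflThree.zmod_inv_self k hk

/-- Products of two Siegel-related reflections. -/
lemma siegel_apply {v r p : V} (hvr : polB Q v r = 0) (hr : Q r = 0)
    (hpr : polB Q p r = 0) (hv : Q v ≠ 0) :
    (refl Q v * refl Q (v + r)).1 p = p - ((Q v)⁻¹ * polB Q p v) • r := by
  have hq : Q (v + r) = Q v := by rw [qmap_add, hr, hvr, add_zero, add_zero]
  have hrv : polB Q r v = 0 := by rwa [polB_comm]
  rw [orth_mul_apply, refl_apply (v + r), hq, map_add (polB Q p), hpr, add_zero, map_sub, map_smul,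
    map_add, refl_self hv, refl_fix hrv, refl_apply]
  module

namespace Ctx

variable {D : Set G} {d : G} {φ : G → V} (h : Ctx Q c D d φ)
include h

/-- An element of the group generated by the partners acts on them as an isometry. -/
lemma exists_orth {g : G} (hg : g ∈ Subgroup.closure (H99.perp D d)) :
    ∃ o ∈ H99.ReflThree.reflGroup Q c, ∀ x ∈ H99.perp D d,
      g * x * g⁻¹ ∈ H99.perp D d ∧ PM (o.1 (φ x)) (φ (g * x * g⁻¹)) := by
  have step : ∀ a ∈ H99.perp D d, ∀ g : G, (∃ o ∈ H99.ReflThree.reflGroup Q c,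
      ∀ x ∈ H99.perp D d, g * x * g⁻¹ ∈ H99.perp D d ∧ PM (o.1 (φ x)) (φ (g * x * g⁻¹))) →
      ∃ o ∈ H99.ReflThree.reflGroup Q c, ∀ x ∈ H99.perp D d,
      a * g * x * (a * g)⁻¹ ∈ H99.perp D d ∧ PM (o.1 (φ x)) (φ (a * g * x * (a * g)⁻¹)) := by
    rintro a ha g ⟨o, ho, ih⟩
    refine ⟨refl Q (φ a) * o, mul_mem (Subgroup.subset_closure ⟨φ a, h.chart.val a ha, rfl⟩) ho,
      fun x hx => ?_⟩
    obtain ⟨h1, h2⟩ := ih x hx
    obtain ⟨h3, h4⟩ := h.chart.conj a ha _ h1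
    have e : a * g * x * (a * g)⁻¹ = a * (g * x * g⁻¹) * a := by
      rw [mul_inv_rev, h.inv_eq ha.1]; group
    rw [e]
    exact ⟨h3, (h2.orth (refl Q (φ a))).trans h4⟩
  induction hg using Subgroup.closure_induction_left with
  | one =>
    refine ⟨1, one_mem _, fun x hx => ?_⟩
    rw [one_mul, inv_one, mul_one]
    exact ⟨hx, PM.refl _⟩
  | mul_left a ha g _ ih => exact step a ha g ih
  | inv_mul_cancel a ha g _ ih => rw [h.inv_eq ha.1]; exact step a ha g ih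

/-- An isometry from the reflection group is induced from the partners. -/
lemma exists_lift {o : orthGroup Q} (ho : o ∈ H99.ReflThree.reflGroup Q c) :
    ∃ g ∈ Subgroup.closure (H99.perp D d), ∀ x ∈ H99.perp D d,
      g * x * g⁻¹ ∈ H99.perp D d ∧ PM (o.1 (φ x)) (φ (g * x * g⁻¹)) := by
  have step : ∀ v, Q v = c → ∀ o : orthGroup Q, (∃ g ∈ Subgroup.closure (H99.perp D d),
      ∀ x ∈ H99.perp D d, g * x * g⁻¹ ∈ H99.perp D d ∧ PM (o.1 (φ x)) (φ (g * x * g⁻¹))) →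
      ∃ g ∈ Subgroup.closure (H99.perp D d), ∀ x ∈ H99.perp D d,
        g * x * g⁻¹ ∈ H99.perp D d ∧ PM ((refl Q v * o).1 (φ x)) (φ (g * x * g⁻¹)) := by
    rintro v hv o ⟨g, hg, ih⟩
    obtain ⟨a, ha, hav⟩ := h.chart.surj v hv
    refine ⟨a * g, mul_mem (Subgroup.subset_closure ha) hg, fun x hx => ?_⟩
    obtain ⟨h1, h2⟩ := ih x hx
    obtain ⟨h3, h4⟩ := h.chart.conj a ha _ h1
    have e : a * g * x * (a * g)⁻¹ = a * (g * x * g⁻¹) * a := by
      rw [mul_inv_rev, h.inv_eq ha.1]; group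
    rw [e, ← hav.refl_eq]
    exact ⟨h3, (h2.orth (refl Q (φ a))).trans h4⟩
  induction ho using Subgroup.closure_induction_left with
  | one =>
    refine ⟨1, one_mem _, fun x hx => ?_⟩
    rw [one_mul, inv_one, mul_one]
    exact ⟨hx, PM.refl _⟩
  | mul_left a ha o _ ih => obtain ⟨v, hv, rfl⟩ := ha; exact step v hv o ih
  | inv_mul_cancel a ha o _ ih => obtain ⟨v, hv, rfl⟩ := ha; rw [refl_inv]; exact step v hv o ih

lemma closure_commute {g : G} (hg : g ∈ Subgroup.closure (H99.perp D d)) : Commute g d :=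
  H99.perpIns_commute (H99.perp_closure_le hg)

lemma far_conj {g : G} (hg : Commute g d) {a : G} (ha : a ∈ far D d) :
    g * a * g⁻¹ ∈ far D d := by
  refine ⟨h.dconj g ha.1, fun hc => ha.2 ?_⟩
  rw [← hg.mul_inv_cancel] at hc
  exact (H99.conj_commute_iff g d a).1 hc

lemma perp_conj' {g : G} (hg : Commute g d) {x : G} (hx : x ∈ H99.perp D d) :
    g * x * g⁻¹ ∈ H99.perp D d := by
  have := H99.perp_conj (fun g _ hd => h.dconj g hd) g hx
  rwa [hg.mul_inv_cancel] at this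

lemma rep_conj {g : G} {o : orthGroup Q} (hg : g ∈ Subgroup.closure (H99.perp D d))
    (ho : ∀ x ∈ H99.perp D d, g * x * g⁻¹ ∈ H99.perp D d ∧ PM (o.1 (φ x)) (φ (g * x * g⁻¹)))
    {x a : G} (hx : x ∈ H99.perp D d) {r : V} (hr : Rep Q D d φ x a r) :
    Rep Q D d φ (g * x * g⁻¹) (g * a * g⁻¹) (o.1 r) := by
  refine ⟨⟨fun e => hr.sg.1 (o.1.map_eq_zero_iff.1 e), by rw [orth_qmap]; exact hr.sg.2⟩, ?_,
    fun p hp => ?_⟩
  · rw [(ho x hx).2.polB_eq_zero', orth_polB_map]; exact hr.perp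
  · have hgd := h.closure_commute hg
    have hq1 : g⁻¹ * p * g ∈ H99.perp D d := by simpa using h.perp_conj' hgd.inv_left hp.1
    have hq2 : g⁻¹ * p * g ∈ H99.perp D x := by
      have := H99.perp_conj (fun g _ hd => h.dconj g hd) g⁻¹ hp.2
      simpa [mul_assoc] using this
    have e : g * (g⁻¹ * p * g) * g⁻¹ = p := by group
    have h2 := (ho _ hq1).2
    rw [e] at h2
    rw [h2.polB_eq_zero', orth_polB_map, ← hr.mem _ ⟨hq1, hq2⟩, ← H99.conj_commute_iff g (g⁻¹ * p * g) a, e]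

variable [Finite V]

lemma rep_glue {x y : G} (hx : x ∈ H99.perp D d) (hy : y ∈ H99.perp D d) (hne : x ≠ y)
    (hc : Commute x y) {a : G} (ha : a ∈ far D d) (hxa : Commute x a) (hya : Commute y a)
    {r r' : V} (hr : Rep Q D d φ x a r) (hr' : Rep Q D d φ y a r') : PM r r' := by
  have hyx : y ∈ H99.perp D d ∩ H99.perp D x := ⟨hy, hy.1, hne.symm, hc⟩
  have hxy : x ∈ H99.perp D d ∩ H99.perp D y := ⟨hx, hx.1, hne, hc.symm⟩
  have hB : polB Q (φ x) (φ y) = 0 := (h.chart.orth_iff h.cne hx hy).2 ⟨hne, hc⟩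
  have hyr : polB Q (φ y) r = 0 := (hr.mem y hyx).1 hya
  have hxr' : polB Q (φ x) r' = 0 := (hr'.mem x hxy).1 hxa
  refine siegel_unique h.nd h.dim h.cne (h.chart.val x hx) (h.chart.val y hy) hB hr.sg hr.perp hyr
    hr'.sg hxr' hr'.perp fun v hv hxv hyv hrv => ?_
  have hvr : polB Q v r = 0 := by rw [polB_comm]; exact hrv
  have hmem : refl Q v * refl Q (v + r) ∈ H99.ReflThree.reflGroup Q c :=
    H99.ReflThree.commutator_le_reflGroup h.nd h.dim h.cne
      (refl_mul_refl_mem_commutator h.nd (reflGenerates_of_two_ne_zero z3_two)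
        (by have := h.dim; omega) hv (by rw [qmap_add_sg hr.sg hvr]; exact hv)
        (congrArg sqc (qmap_add_sg hr.sg hvr).symm))
  obtain ⟨g, hg, hgo⟩ := h.exists_lift hmem
  set o := refl Q v * refl Q (v + r)
  have fix1 : ∀ p, polB Q p v = 0 → polB Q p r = 0 → o.1 p = p := fun p h1 h2 => by
    rw [siegel_apply hvr hr.sg.2 h2 hv, h1, mul_zero, zero_smul, sub_zero]
  have fixE : ∀ z ∈ H99.perp D d, polB Q (φ z) v = 0 → polB Q (φ z) r = 0 → g * z * g⁻¹ = z := by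
    intro z hz h1 h2
    obtain ⟨h3, h4⟩ := hgo z hz
    rw [fix1 _ h1 h2] at h4
    exact (h.chart.inj z hz _ h3 h4).symm
  have hgx := fixE x hx hxv hr.perp
  have hgy := fixE y hy hyv hyr
  have hrr : o.1 r = r := fix1 r hrv (by rw [polB_self, hr.sg.2, mul_zero])
  have h1 := h.rep_conj hg hgo hx hr
  have h2 := h.rep_conj hg hgo hy hr'
  rw [hgx, hrr] at h1
  rw [hgy] at h2
  have hfar := h.far_conj (h.closure_commute hg) ha
  have hxa' : Commute x (g * a * g⁻¹) := by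
    have := (H99.conj_commute_iff g x a).2 hxa
    rwa [hgx] at this
  rcases h.rep_inj hx ha hxa hfar hxa' hr h1 with e | e
  · rw [e] at h2; exact h.rep_unique hy hr' h2
  · rw [e] at h2; exact h.rep_unique hy (h.rep_flip hr') h2

end Ctx

/-- The pair of `a` is the singular point `r`. -/
structure Wt (Q : QuadraticForm (ZMod 3) V) (D : Set G) (d : G) (φ : G → V) (a : G) (r : V) :
    Prop where
  far : a ∈ far D d
  sg : Sg Q r
  rep : ∀ x ∈ H99.perp D d, Commute x a → Rep Q D d φ x a r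

namespace Wt

variable {D : Set G} {d : G} {φ : G → V} {a : G} {r r' : V}

lemma of_pm (hr : Wt Q D d φ a r) (hp : PM r r') : Wt Q D d φ a r' :=
  ⟨hr.far, ⟨by rcases hp with rfl | rfl
               · exact hr.sg.1
               · exact neg_ne_zero.2 hr.sg.1, hp.qmap.trans hr.sg.2⟩,
    fun x hx hc => (hr.rep x hx hc).of_pm hp⟩

end Wt

namespace Ctx

variable {D : Set G} {d : G} {φ : G → V} (h : Ctx Q c D d φ) [Finite G] [Finite V]
include h

lemma exists_common {a : G} (ha : a ∈ far D d) : ∃ x ∈ H99.perp D d, Commute x a := by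
  obtain ⟨v, hv⟩ := exists_qmap_eq h.nd (by have := h.dim; omega) c h.cne
  obtain ⟨x, hx, -⟩ := h.chart.surj v hv
  obtain ⟨r, hr, hxr⟩ := exists_sg_perp h.nd h.dim h.cne (h.chart.val x hx)
  obtain ⟨a0, ha0, hxa0, -⟩ := h.rep_surj hx hr hxr
  obtain ⟨k, hk, rfl⟩ :=
    H99.trans_on_noncommuting h.cls h.prim h.wide h.mem ha0.1 ha0.2 ha.1 ha.2
  exact ⟨k * x * k⁻¹, h.perp_conj' (H99.perpIns_commute hk) hx,
    (H99.conj_commute_iff k x a0).2 hxa0⟩

lemma rep_le {a : G} (ha : a ∈ far D d) {x : G} (hx : x ∈ H99.perp D d) (hxa : Commute x a)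
    {r : V} (hr : Rep Q D d φ x a r) {p : G} (hp : p ∈ H99.perp D d) (hpa : Commute p a) :
    polB Q (φ p) r = 0 := by
  by_cases hpx : p = x
  · rw [hpx]; exact hr.perp
  by_cases hc : Commute x p
  · exact (hr.mem p ⟨hp, hp.1, hpx, hc⟩).1 hpa
  have hs := h.sub_perp hx
  have hxc := h.chart.val x hx
  obtain ⟨e, he, hxe, hre⟩ := exists_point_sg h.nd h.dim h.cne hxc hr.sg hr.perp
  obtain ⟨y, hy, hey⟩ := hs.surj e he hxe
  have hyr : polB Q (φ y) r = 0 := by rw [hey.polB_eq_zero', polB_comm]; exact hre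
  have hyc : Q (φ y) = c := hs.val y hy
  obtain ⟨y1, hy1, hpy1⟩ := hs.surj (φ y + r) (by rw [qmap_add_sg hr.sg hyr, hyc])
    (by rw [map_add, hs.perp y hy, hr.perp, add_zero])
  obtain ⟨hy2, hpy2⟩ := hs.conj y hy y1 hy1
  have hpy2' : PM (φ y - r) (φ (y * y1 * y)) :=
    ((refl_line (hyc.symm ▸ h.cne) hyr).trans (hpy1.orth _)).trans hpy2
  have case1 : ∀ q ∈ H99.perp D d ∩ H99.perp D x, polB Q (φ q) r = 0 →
      polB Q (φ p) (φ q) = 0 → polB Q (φ p) r = 0 := by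
    intro q hq hqr h0
    have hqa := (hr.mem q hq).2 hqr
    obtain ⟨r', hr'⟩ := h.rep_exists hq.1 ha hqa
    have hpm : PM r r' := h.rep_glue hx hq.1 hq.2.2.1.symm hq.2.2.2 ha hxa hqa hr hr'
    obtain ⟨hne, hcm⟩ := (h.chart.orth_iff h.cne hp hq.1).1 h0
    exact (hpm.polB_eq_zero _).1 ((hr'.mem p ⟨hp, hp.1, hne, hcm.symm⟩).1 hpa)
  have hr0 : polB Q r r = 0 := by rw [polB_self, hr.sg.2, mul_zero]
  by_cases h0 : polB Q (φ p) (φ y) = 0
  · exact case1 y hy hyr h0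
  by_cases h1 : polB Q (φ p) (φ y1) = 0
  · exact case1 y1 hy1
      (by rw [hpy1.polB_eq_zero', map_add, LinearMap.add_apply, hyr, hr0, add_zero]) h1
  by_cases h2 : polB Q (φ p) (φ (y * y1 * y)) = 0
  · exact case1 _ hy2
      (by rw [hpy2'.polB_eq_zero', map_sub, LinearMap.sub_apply, hyr, hr0, sub_zero]) h2
  rw [hpy1.polB_eq_zero] at h1
  rw [hpy2'.polB_eq_zero] at h2
  exact (line_iff hyr (φ p)).2 ⟨iff_of_false h0 h1, iff_of_false h0 h2⟩

lemma wt_exists {a : G} (ha : a ∈ far D d) : ∃ r, Wt Q D d φ a r := by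
  obtain ⟨x, hx, hxa⟩ := h.exists_common ha
  obtain ⟨r, hr⟩ := h.rep_exists hx ha hxa
  refine ⟨r, ha, hr.sg, fun x' hx' hxa' => ?_⟩
  obtain ⟨r', hr'⟩ := h.rep_exists hx' ha hxa'
  refine hr'.of_pm (PM.symm ?_)
  refine sg_unique h.nd h.dim h.cne (h.chart.val x hx) hr.sg hr.perp hr'.sg
    (h.rep_le ha hx' hxa' hr' hx hxa) fun p hp hxp hrp => ?_
  obtain ⟨q, hq, hpq⟩ := (h.sub_perp hx).surj p hp hxp
  have h0 : polB Q (φ q) r = 0 := by rw [hpq.polB_eq_zero', polB_comm]; exact hrp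
  have h1 := h.rep_le ha hx' hxa' hr' hq.1 ((hr.mem q hq).2 h0)
  rwa [hpq.polB_eq_zero', polB_comm] at h1

lemma wt_unique {a : G} {r r' : V} (h1 : Wt Q D d φ a r) (h2 : Wt Q D d φ a r') : PM r r' := by
  obtain ⟨x, hx, hxa⟩ := h.exists_common h1.far
  exact h.rep_unique hx (h1.rep x hx hxa) (h2.rep x hx hxa)

lemma wt_flip {a : G} {r : V} (h1 : Wt Q D d φ a r) : Wt Q D d φ (d * a * d) r :=
  ⟨h.far_flip h1.far, h1.sg, fun x hx hc => h.rep_flip (h1.rep x hx ((h.commute_flip hx).1 hc))⟩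

lemma wt_conj {g : G} {o : orthGroup Q} (hg : g ∈ Subgroup.closure (H99.perp D d))
    (ho : ∀ x ∈ H99.perp D d, g * x * g⁻¹ ∈ H99.perp D d ∧ PM (o.1 (φ x)) (φ (g * x * g⁻¹)))
    {a : G} {r : V} (hr : Wt Q D d φ a r) : Wt Q D d φ (g * a * g⁻¹) (o.1 r) := by
  refine ⟨h.far_conj (h.closure_commute hg) hr.far,
    ⟨fun e => hr.sg.1 (o.1.map_eq_zero_iff.1 e), by rw [orth_qmap]; exact hr.sg.2⟩,
    fun x hx hc => ?_⟩
  have hx' : g⁻¹ * x * g ∈ H99.perp D d := by
    simpa using h.perp_conj' (h.closure_commute hg).inv_left hx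
  have hc' : Commute (g⁻¹ * x * g) a := by
    have := (H99.conj_commute_iff g⁻¹ x (g * a * g⁻¹)).2 hc
    simpa [mul_assoc] using this
  have := h.rep_conj hg ho hx' (hr.rep _ hx' hc')
  rwa [show g * (g⁻¹ * x * g) * g⁻¹ = x by group] at this

/-- Two pairs with the same singular point are equal. -/
lemma wt_inj {a a' : G} {r : V} (h1 : Wt Q D d φ a r) (h2 : Wt Q D d φ a' r) :
    a' = a ∨ a' = d * a * d := by
  obtain ⟨x, hx, hxa⟩ := h.exists_common h1.far
  by_cases hcom : ∃ z ∈ H99.perp D d, Commute z a ∧ Commute z a'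
  · obtain ⟨z, hz, hza, hza'⟩ := hcom
    exact h.rep_inj hz h1.far hza h2.far hza' (h1.rep z hz hza) (h2.rep z hz hza')
  exfalso
  push Not at hcom
  have hs := h.sub_perp hx
  have hR := h1.rep x hx hxa
  obtain ⟨e, he, hxe, hre⟩ :=
    exists_point_sg h.nd h.dim h.cne (h.chart.val x hx) hR.sg hR.perp
  obtain ⟨y, hy, hey⟩ := hs.surj e he hxe
  have hyr : polB Q (φ y) r = 0 := by rw [hey.polB_eq_zero', polB_comm]; exact hre
  have hr0 : polB Q r r = 0 := by rw [polB_self, hR.sg.2, mul_zero]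
  have hyc : Q (φ y) = c := hs.val y hy
  obtain ⟨y1, hy1, hpy1⟩ := hs.surj (φ y + r) (by rw [qmap_add_sg hR.sg hyr, hyc])
    (by rw [map_add, hs.perp y hy, hR.perp, add_zero])
  have hya : Commute y a := (hR.mem y hy).2 hyr
  have hy1a : Commute y1 a := (hR.mem y1 hy1).2
    (by rw [hpy1.polB_eq_zero', map_add, LinearMap.add_apply, hyr, hr0, add_zero])
  have hyy1 : y ≠ y1 := fun e' => not_pm_self_add hR.sg (hyc.symm ▸ h.cne)
    (by have := hpy1.symm; rw [← e'] at this; exact this)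
  have hny : ¬ Commute y a' := hcom y hy.1 hya
  have hny1 : ¬ Commute y1 a' := hcom y1 hy1.1 hy1a
  have hnyy : ¬ Commute y y1 := fun hcm => by
    have h0 := (h.chart.orth_iff h.cne hy.1 hy1.1).2 ⟨hyy1, hcm⟩
    rw [hpy1.polB_eq_zero, map_add, hyr, add_zero, polB_self, hyc] at h0
    exact mul_ne_zero z3_two h.cne h0
  set g := y * y1
  have hg : g ∈ Subgroup.closure (H99.perp D d) :=
    mul_mem (Subgroup.subset_closure hy.1) (Subgroup.subset_closure hy1.1)
  set o := refl Q (φ y) * refl Q (φ y + r)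
  have hgo : ∀ z ∈ H99.perp D d, g * z * g⁻¹ ∈ H99.perp D d ∧
      PM (o.1 (φ z)) (φ (g * z * g⁻¹)) := by
    intro z hz
    obtain ⟨h3, h4⟩ := h.chart.conj y1 hy1.1 z hz
    obtain ⟨h5, h6⟩ := h.chart.conj y hy.1 _ h3
    rw [hpy1.refl_eq] at h4
    have e' : g * z * g⁻¹ = y * (y1 * z * y1) * y := by
      simp only [g, mul_inv_rev, h.inv_eq hy.1.1, h.inv_eq hy1.1.1]; group
    rw [e']
    exact ⟨h5, (h4.orth (refl Q (φ y))).trans h6⟩
  have fix1 : ∀ p, polB Q p r = 0 → o.1 p = p - ((Q (φ y))⁻¹ * polB Q p (φ y)) • r := fun p hp =>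
    siegel_apply hyr hR.sg.2 hp (hyc.symm ▸ h.cne)
  have hor : o.1 r = r := by
    rw [fix1 r hr0, polB_comm r, hyr, mul_zero, zero_smul, sub_zero]
  have h2' := h.wt_conj hg hgo h2
  rw [hor] at h2'
  obtain ⟨p, hp, hpa'⟩ := h.exists_common h2.far
  have hRp := h2.rep p hp hpa'
  obtain ⟨q0, hq0, hpq0, hrq0⟩ :=
    exists_point_sg h.nd h.dim h.cne (h.chart.val p hp) hRp.sg hRp.perp
  obtain ⟨q, hq, hqq⟩ := (h.sub_perp hp).surj q0 hq0 hpq0
  have hqr : polB Q (φ q) r = 0 := by rw [hqq.polB_eq_zero', polB_comm]; exact hrq0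
  have hqa' : Commute q a' := (hRp.mem q hq).2 hqr
  obtain ⟨hgp, hgp'⟩ := hgo p hp
  rw [fix1 _ hRp.perp] at hgp'
  have hqp : polB Q (φ q) (φ (g * p * g⁻¹)) = 0 := by
    rw [hgp'.polB_eq_zero, map_sub, map_smul, hqr, smul_zero, sub_zero,
      polB_comm]
    exact (h.sub_perp hp).perp q hq
  obtain ⟨hne, hcm⟩ := (h.chart.orth_iff h.cne hq.1 hgp).1 hqp
  have hgpr : polB Q (φ (g * p * g⁻¹)) r = 0 := by
    rw [hgp'.polB_eq_zero', map_sub, LinearMap.sub_apply, map_smul, LinearMap.smul_apply, hr0,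
      smul_zero, sub_zero]
    exact hRp.perp
  have hgpa' : Commute (g * p * g⁻¹) a' :=
    ((h2.rep q hq.1 hqa').mem _ ⟨hgp, hgp.1, fun e' => hne e'.symm, hcm⟩).2 hgpr
  have hgpa'' : Commute (g * p * g⁻¹) (g * a' * g⁻¹) := (H99.conj_commute_iff g p a').2 hpa'
  have hg3 : g ^ 3 = 1 := H99.tt_cube_of_not_commute h.tt hy.1.1 hy1.1.1 hnyy
  have hfix : g * a' * g⁻¹ = a' := by
    rcases h.rep_inj hgp h2.far hgpa' h2'.far hgpa'' (h2.rep _ hgp hgpa')
      (h2'.rep _ hgp hgpa'') with e' | e'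
    · exact e'
    · have hgdd := (h.closure_commute hg).mul_inv_cancel
      have h22 : g ^ 2 * a' * (g ^ 2)⁻¹ = a' := by
        calc g ^ 2 * a' * (g ^ 2)⁻¹ = g * (g * a' * g⁻¹) * g⁻¹ := by rw [pow_two]; group
          _ = g * (d * a' * d) * g⁻¹ := by rw [e']
          _ = (g * d * g⁻¹) * (g * a' * g⁻¹) * (g * d * g⁻¹) := by group
          _ = d * (d * a' * d) * d := by rw [hgdd, e']
          _ = (d * d) * a' * (d * d) := by group
          _ = a' := by rw [h.sq h.mem]; group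
      have h4 : g = g ^ 2 * g ^ 2 := by
        rw [← pow_add, show (2 + 2 : ℕ) = 3 + 1 from rfl, pow_succ, hg3, one_mul]
      calc g * a' * g⁻¹ = (g ^ 2 * g ^ 2) * a' * (g ^ 2 * g ^ 2)⁻¹ := by rw [← h4]
        _ = g ^ 2 * (g ^ 2 * a' * (g ^ 2)⁻¹) * (g ^ 2)⁻¹ := by group
        _ = a' := by rw [h22, h22]
  have hcg : y * y1 * a' = a' * (y * y1) := mul_inv_eq_iff_eq_mul.1 hfix
  have key : y1 * a' * y1 = y * a' * y := by
    calc y1 * a' * y1 = (y * y) * y1 * a' * y1 := by rw [h.sq hy.1.1, one_mul]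
      _ = y * (y * y1 * a') * y1 := by group
      _ = y * (a' * (y * y1)) * y1 := by rw [hcg]
      _ = y * a' * y * (y1 * y1) := by group
      _ = y * a' * y := by rw [h.sq hy1.1.1, mul_one]
  rw [H99.tt_braid h.tt hy1.1.1 h2.far.1 hny1, H99.tt_braid h.tt hy.1.1 h2.far.1 hny] at key
  exact hyy1 (mul_left_cancel (mul_right_cancel key)).symm

lemma wt_surj {r : V} (hr : Sg Q r) : ∃ a, Wt Q D d φ a r := by
  obtain ⟨e, he, hre⟩ := exists_point_perp_sg h.nd h.dim h.cne hr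
  obtain ⟨x, hx, hex⟩ := h.chart.surj e he
  obtain ⟨a, ha, hxa, hR⟩ :=
    h.rep_surj hx hr (by rw [hex.polB_eq_zero', polB_comm]; exact hre)
  obtain ⟨r', hr'⟩ := h.wt_exists ha
  exact ⟨a, hr'.of_pm (h.rep_unique hx (hr'.rep x hx hxa) hR)⟩

/-- The partners of `d` commuting with `a` are the points orthogonal to its singular point. -/
lemma wt_commute {a : G} {r : V} (hr : Wt Q D d φ a r) {p : G} (hp : p ∈ H99.perp D d) :
    Commute p a ↔ polB Q (φ p) r = 0 := by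
  refine ⟨fun hc => (hr.rep p hp hc).perp, fun h0 => ?_⟩
  obtain ⟨a', ha', hpa', hR⟩ := h.rep_surj hp hr.sg h0
  obtain ⟨r', hr'⟩ := h.wt_exists ha'
  have h1 := hr'.of_pm (h.rep_unique hp (hr'.rep p hp hpa') hR)
  rcases h.wt_inj hr h1 with rfl | rfl
  · exact hpa'
  · exact (h.commute_flip hp).1 hpa'

end Ctx

end H20.FischerO3
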