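/-
A bijection of a class of 3-transpositions with the points of one norm over the field with three
elements, respecting commutation, gives the reflection case.
-/
import Cfsg.Agent.H20.FischerO3.Geom
import Cfsg.Agent.H20.FischerO3.Local
import Cfsg.Agent.H71.Fischer.Defs
import Cfsg.Agent.H98.M24.Eqv

set_option autoImplicit false

namespace H20.FischerO3

open Cfsg H43 H71.Fischer H99.ReflThree

universe u

theorem reflCase_of_points {G : Type u} [Group G] [Finite G] {D : Set G} {m : ℕ}
    {Q : QuadraticForm (ZMod 3) (Fin m → ZMod 3)} {c : ZMod 3} {F : G → (Fin m → ZMod 3)}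
    (hD : IsThreeTranspositionClass D) (hZ : Subgroup.center G = ⊥) (hm : 6 ≤ m)
    (hQ : (polB Q).Nondegenerate) (hc : c ≠ 0) (hval : ∀ x ∈ D, Q (F x) = c)
    (hinj : ∀ x ∈ D, ∀ y ∈ D, PM (F x) (F y) → x = y)
    (hsurj : ∀ v, Q v = c → ∃ x ∈ D, PM v (F x))
    (hcomm : ∀ x ∈ D, ∀ y ∈ D, x ≠ y → (Commute x y ↔ polB Q (F x) (F y) = 0)) :
    ReflCase G D m := by
  classical
  haveI : Fact (Nat.Prime 3) := ⟨Nat.prime_three⟩
  have hT := hD.1
  have h6 : 6 ≤ Module.finrank (ZMod 3) (Fin m → ZMod 3) := by rwa [Module.finrank_fin_fun]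
  have h5 : 5 ≤ Module.finrank (ZMod 3) (Fin m → ZMod 3) := le_trans (by norm_num) h6
  set R := ↥(Cfsg.reflectionSubgroup (⇑Q) c)
  set br : R →* orthGroup Q := bridge Q c
  have hbi := bridge_injective Q c
  have hbr := bridge_range Q c
  have hex : ∀ v, ∃ r : R, Q v = c → br r = refl Q v := fun v => by
    by_cases hv : Q v = c
    · obtain ⟨r, hr⟩ := mem_range_refl hbr hv
      exact ⟨r, fun _ => hr⟩
    · exact ⟨1, fun h => absurd h hv⟩
  choose s hs using hex
  set mk : R →* R ⧸ Subgroup.center R := QuotientGroup.mk' (Subgroup.center R)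
  have hsq : ∀ v, Q v = c → s v * s v = 1 := fun v hv => hbi (by
    rw [map_mul, hs v hv, refl_sq, map_one])
  have hspm : ∀ u v, Q u = c → PM u v → s u = s v := fun u v hu hp => hbi (by
    rw [hs u hu, hs v (hp.qmap.trans hu), hp.refl_eq])
  have hclose : Subgroup.closure (classSet br c) = ⊤ :=
    (isClass hQ (le_trans (by norm_num) h5) hc hbi hbr).2.2
  have hmkinj : ∀ u v, Q u = c → Q v = c → mk (s u) = mk (s v) → PM u v := by
    intro u v hu hv he
    by_contra hne
    obtain ⟨p, hp, hvp, hup, hnp⟩ := exists_point_sep hQ h5 hc hu hv hne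
    obtain ⟨z, hz, hzv⟩ : ∃ z ∈ Subgroup.center R, s v = s u * z :=
      ⟨(s u)⁻¹ * s v, QuotientGroup.eq.1 he, (mul_inv_cancel_left _ _).symm⟩
    have hcv : Commute (s v) (s p) := hbi (by
      rw [map_mul, map_mul, hs v hv, hs p hp]
      refine ((refl_commute_iff (hv.symm ▸ hc) (hv.trans hp.symm) (fun e => ?_) (fun e => ?_)).2
        hvp).eq
      · rw [e, polB_self, hv] at hvp
        exact mul_ne_zero z3_two hc hvp
      · rw [e, map_neg, polB_self, hv, neg_eq_zero] at hvp
        exact mul_ne_zero z3_two hc hvp)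
    have hcu : Commute (s u) (s p) := by
      have h1 : Commute (s v * z⁻¹) (s p) :=
        hcv.mul_left (Subgroup.mem_center_iff.1 (inv_mem hz) (s p)).symm
      rwa [hzv, mul_inv_cancel_right] at h1
    have := congrArg br hcu.eq
    rw [map_mul, map_mul, hs u hu, hs p hp] at this
    exact hup ((refl_commute_iff (hu.symm ▸ hc) (hu.trans hp.symm)
      (fun e => hnp (Or.inl e)) (fun e => hnp (Or.inr e))).1 this)
  -- the third point
  have hthird : ∀ x ∈ D, ∀ y ∈ D, PM ((refl Q (F x)).1 (F y)) (F (x * y * x)) := by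
    intro x hx y hy
    have hxc := hval x hx
    by_cases hxy : Commute x y
    · rw [show x * y * x = y by rw [hxy.eq, mul_assoc, H99.tt_mul_self hT hx, mul_one]]
      by_cases he : x = y
      · subst he; rw [refl_self (hxc.symm ▸ hc)]; exact (PM.neg_self _).symm
      · rw [refl_fix (show polB Q (F y) (F x) = 0 by
          rw [polB_comm]; exact (hcomm x hx y hy he).1 hxy)]
        exact PM.refl _
    · have hne : x ≠ y := fun e => hxy (e ▸ Commute.refl x)
      obtain ⟨r, hr, hxr, hpm⟩ := line_of_nonorth hc hxc (hval y hy)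
        (fun h => hne (hinj x hx y hy h)) (fun h => hxy ((hcomm x hx y hy hne).2 h))
      have hz : x * y * x ∈ D := by
        have := H99.class_conj_mem hD x hy
        rwa [H99.tt_inv hT hx] at this
      have hzx : ¬ Commute (x * y * x) x := fun e => hxy (by
        have h1 := (H99.conj_commute_iff x (x * y * x) x).2 e
        rw [H99.tt_inv hT hx, show x * (x * y * x) * x = (x * x) * y * (x * x) by group,
          show x * x * x = x by rw [H99.tt_mul_self hT hx, one_mul], H99.tt_mul_self hT hx, one_mul,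
          mul_one] at h1
        exact h1.symm)
      have hperp : ∀ p, Q p = c → polB Q (F x) p = 0 → polB Q r p = 0 →
          polB Q p (F (x * y * x)) = 0 := by
        intro p hp hxp hrp
        obtain ⟨q, hq, hpq⟩ := hsurj p hp
        have hqx : polB Q (F q) (F x) = 0 := by rw [hpq.polB_eq_zero', polB_comm]; exact hxp
        have hqy : polB Q (F q) (F y) = 0 := by
          rw [hpm.polB_eq_zero, map_add, hqx, zero_add, hpq.polB_eq_zero', polB_comm]; exact hrp
        have hne' : ∀ w ∈ D, polB Q (F q) (F w) = 0 → q ≠ w := fun w hw h e => by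
          rw [e, polB_self, hval w hw] at h
          exact mul_ne_zero z3_two hc h
        have c1 := (hcomm q hq x hx (hne' x hx hqx)).2 hqx
        have c2 := (hcomm q hq y hy (hne' y hy hqy)).2 hqy
        have c3 : Commute q (x * y * x) := (c1.mul_right c2).mul_right c1
        have hqz : q ≠ x * y * x := fun e => hzx (e ▸ c1)
        have := (hcomm q hq _ hz hqz).1 c3
        rwa [hpq.polB_eq_zero'] at this
      rcases mem_line_of_perp hQ h6 hc hxc hr hxr (hval _ hz) hperp with h | h | h
      · have e := hinj _ hz x hx h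
        exact absurd (by rw [e]) hzx
      · have e := hinj _ hz y hy (h.trans hpm)
        exfalso
        have h1 : x * y * x * y⁻¹ = 1 := by rw [e, mul_inv_cancel]
        apply hxy
        have h2 : x * y = y * x := by
          calc x * y = x * y * (x * x) := by rw [H99.tt_mul_self hT hx, mul_one]
            _ = (x * y * x) * x := by group
            _ = y * x := by rw [e]
        exact h2
      · exact ((hpm.orth (refl Q (F x))).symm.trans (refl_line (hxc.symm ▸ hc) hxr).symm).trans
          h.symm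
  have hset : mk '' classSet br c = (QuotientGroup.mk : R → R ⧸ Subgroup.center R) ''
      {g : R | (g : ↥(Cfsg.isometryGroup (ZMod 3) (⇑Q))) ∈ Cfsg.reflectionsOfNorm (⇑Q) c} := by
    rw [classSet_eq]; rfl
  have hTmem : ∀ t ∈ mk '' classSet br c, ∃ v, Q v = c ∧ t = mk (s v) := by
    rintro _ ⟨r, ⟨v, hv, hr⟩, rfl⟩
    exact ⟨v, hv, congrArg mk (hbi (hr.trans (hs v hv).symm))⟩
  have hsT : ∀ v, Q v = c → mk (s v) ∈ mk '' classSet br c := fun v hv =>
    ⟨s v, ⟨v, hv, hs v hv⟩, rfl⟩
  have hCE : H98.M24.CE (mk '' classSet br c) := by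
    refine ⟨fun t ht => ?_, fun t ht t' ht' => ?_⟩
    · obtain ⟨v, hv, rfl⟩ := hTmem t ht
      rw [← map_mul, hsq v hv, map_one]
    · obtain ⟨v, hv, rfl⟩ := hTmem t ht
      obtain ⟨w, hw, rfl⟩ := hTmem t' ht'
      refine ⟨s v * s w * s v, ⟨(refl Q v).1 w, by rw [orth_qmap, hw], ?_⟩, by rw [map_mul, map_mul]⟩
      rw [map_mul, map_mul, hs v hv, hs w hw, ← refl_conj, refl_inv]
  have hgen : Subgroup.closure (mk '' classSet br c) = ⊤ := by
    rw [← MonoidHom.map_closure, hclose]
    exact Subgroup.map_top_of_surjective _ (QuotientGroup.mk'_surjective _)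
  have hcen : Subgroup.center (R ⧸ Subgroup.center R) = ⊥ := by
    rw [eq_bot_iff]
    intro t ht
    obtain ⟨g, rfl⟩ := QuotientGroup.mk'_surjective _ t
    rw [Subgroup.mem_bot, QuotientGroup.mk'_apply, QuotientGroup.eq_one_iff, Subgroup.mem_center_iff]
    have hle : Subgroup.closure (classSet br c) ≤ Subgroup.centralizer {g} := by
      rw [Subgroup.closure_le]
      rintro r ⟨v, hv, hr⟩
      obtain rfl : r = s v := hbi (hr.trans (hs v hv).symm)
      refine Subgroup.mem_centralizer_singleton_iff.2 ?_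
      have hw : Q ((br g).1 v) = c := by rw [orth_qmap, hv]
      have e1 : g * s v * g⁻¹ = s ((br g).1 v) := hbi (by
        rw [map_mul, map_mul, map_inv, hs v hv, hs _ hw, refl_conj])
      have e2 : mk (g * s v * g⁻¹) = mk (s v) := by
        rw [map_mul, map_mul, map_inv, ← Subgroup.mem_center_iff.1 ht (mk (s v)),
          mul_inv_cancel_right]
      rw [e1] at e2
      have e3 := hspm _ _ hw (hmkinj _ _ hw hv e2)
      rw [← e1] at e3
      exact (mul_inv_eq_iff_eq_mul.1 e3).symm
    intro r
    exact Subgroup.mem_centralizer_singleton_iff.1 (hle (hclose ▸ Subgroup.mem_top r))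
  have hEqv : H98.M24.Eqv D (mk '' classSet br c) fun x => mk (s (F x)) := by
    refine ⟨⟨fun x hx => hsT _ (hval x hx), fun x hx y hy he => ?_, fun t ht => ?_⟩,
      fun x hx y hy => ?_⟩
    · exact hinj x hx y hy (hmkinj _ _ (hval x hx) (hval y hy) he)
    · obtain ⟨v, hv, rfl⟩ := hTmem t ht
      obtain ⟨x, hx, hvx⟩ := hsurj v hv
      exact ⟨x, hx, congrArg mk (hspm v _ hv hvx).symm⟩
    · show mk (s (F (x * y * x))) = mk (s (F x)) * mk (s (F y)) * mk (s (F x))
      have hw : Q ((refl Q (F x)).1 (F y)) = c := by rw [orth_qmap, hval y hy]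
      rw [← map_mul, ← map_mul, ← hspm _ _ hw (hthird x hx y hy)]
      refine congrArg mk (hbi ?_)
      rw [map_mul, map_mul, hs _ hw, hs _ (hval x hx), hs _ (hval y hy), ← refl_conj, refl_inv]
  obtain ⟨e, he⟩ := hEqv.exists_mulEquiv (H98.M24.CE.of_class hD) hCE hD.2.2 hgen hZ hcen
  refine ⟨Q, hQ, c, hc, e, ?_⟩
  rw [← hset, ← hEqv.bij.image_eq]
  exact Set.image_congr he

end H20.FischerO3
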