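/-
From a labelling of the members not commuting with one member to the reflection group one
dimension up.
-/
import Cfsg.Agent.H20.FischerO3.Geom
import Cfsg.Agent.H20.FischerO3.Local
import Cfsg.Agent.H71.Fischer.Defs
import Cfsg.Agent.H44.Fischer.ReflCard
import Cfsg.Agent.H98.M24.Eqv

set_option autoImplicit false
set_option linter.unusedSectionVars false

namespace H20.FischerO3

open Cfsg H43 H71.Fischer H99.ReflThree

universe u

local instance factThreeModel : Fact (Nat.Prime 3) := ⟨Nat.prime_three⟩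

section form

variable {n : ℕ}

/-- The tail of a vector. -/
noncomputable def tailMap (n : ℕ) : (Fin (n + 1) → ZMod 3) →ₗ[ZMod 3] (Fin n → ZMod 3) :=
  LinearMap.funLeft (ZMod 3) (ZMod 3) Fin.succ

lemma tailMap_cons (a : ZMod 3) (v : Fin n → ZMod 3) : tailMap n (Fin.cons a v) = v := by
  funext i; simp [tailMap, LinearMap.funLeft_apply]

/-- The form with one more orthogonal vector of norm `c`. -/
noncomputable def plusForm (Q : QuadraticForm (ZMod 3) (Fin n → ZMod 3)) (c : ZMod 3) :
    QuadraticForm (ZMod 3) (Fin (n + 1) → ZMod 3) :=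
  c • QuadraticMap.linMulLin (LinearMap.proj (0 : Fin (n + 1))) (LinearMap.proj 0) + Q.comp (tailMap n)

variable (Q : QuadraticForm (ZMod 3) (Fin n → ZMod 3)) (c : ZMod 3)

lemma plusForm_cons (a : ZMod 3) (v : Fin n → ZMod 3) :
    plusForm Q c (Fin.cons a v) = c * (a * a) + Q v := by
  rw [plusForm, QuadraticMap.add_apply, QuadraticMap.smul_apply, QuadraticMap.comp_apply,
    tailMap_cons, QuadraticMap.linMulLin_apply, LinearMap.proj_apply, Fin.cons_zero, smul_eq_mul]

lemma polB_plusForm (a b : ZMod 3) (v w : Fin n → ZMod 3) :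
    polB (plusForm Q c) (Fin.cons a v) (Fin.cons b w) = 2 * c * (a * b) + polB Q v w := by
  rw [polB_apply, polB_apply, QuadraticMap.polar, QuadraticMap.polar,
    show (Fin.cons a v : Fin (n + 1) → ZMod 3) + Fin.cons b w = Fin.cons (a + b) (v + w) from
      funext (Fin.cases rfl fun _ => rfl), plusForm_cons, plusForm_cons, plusForm_cons]
  ring

lemma exists_cons (x : Fin (n + 1) → ZMod 3) : ∃ a v, x = Fin.cons a v :=
  ⟨x 0, Fin.tail x, (Fin.cons_self_tail x).symm⟩

lemma plusForm_nondeg (hQ : (polB Q).Nondegenerate) (hc : c ≠ 0) :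
    (polB (plusForm Q c)).Nondegenerate := by
  have key : ∀ x, (∀ y, polB (plusForm Q c) x y = 0) → x = 0 := by
    intro x hx
    obtain ⟨a, v, rfl⟩ := exists_cons x
    have h1 : a = 0 := by
      have := hx (Fin.cons 1 0)
      rw [polB_plusForm, map_zero, add_zero, mul_one] at this
      exact (mul_eq_zero.1 this).resolve_left (mul_ne_zero (by decide) hc)
    have h2 : v = 0 := eq_zero_of_polB_eq_zero hQ fun w => by
      have := hx (Fin.cons 0 w)
      rwa [polB_plusForm, h1, zero_mul, mul_zero, zero_add] at this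
    subst h1; subst h2
    exact funext (Fin.cases rfl fun _ => rfl)
  exact ⟨key, fun y h => key y fun x => by rw [polB_comm]; exact h x⟩

lemma pm_cons {a b : ZMod 3} {v w : Fin n → ZMod 3}
    (h : PM (Fin.cons a v : Fin (n + 1) → ZMod 3) (Fin.cons b w)) :
    (b = a ∧ w = v) ∨ (b = -a ∧ w = -v) := by
  rcases h with h | h
  · exact Or.inl ⟨by simpa using congrFun h 0,
      funext fun i => by simpa using congrFun h i.succ⟩
  · exact Or.inr ⟨by simpa using congrFun h 0,
      funext fun i => by simpa using congrFun h i.succ⟩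

end form

section model

variable {G : Type u} [Group G] [Finite G] {D : Set G} {d : G} {n : ℕ}
  {Q : QuadraticForm (ZMod 3) (Fin n → ZMod 3)} {c : ZMod 3} {φ f : G → (Fin n → ZMod 3)}

open scoped Classical in
/-- The point of a member in one dimension more. -/
noncomputable def upMap (d : G) (φ f : G → (Fin n → ZMod 3)) (x : G) : Fin (n + 1) → ZMod 3 :=
  if x = d then Fin.cons 1 0 else if Commute d x then Fin.cons 0 (φ x) else Fin.cons 1 (f x)

lemma upMap_self : upMap d φ f d = Fin.cons 1 0 := by rw [upMap, if_pos rfl]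

lemma upMap_perp {x : G} (hx : x ∈ H99.perp D d) : upMap d φ f x = Fin.cons 0 (φ x) := by
  rw [upMap, if_neg hx.2.1, if_pos hx.2.2]

lemma upMap_far {x : G} (hx : x ∈ far D d) : upMap d φ f x = Fin.cons 1 (f x) := by
  rw [upMap, if_neg fun e => hx.2 (by rw [e]), if_neg hx.2]

lemma trichotomy {x : G} (hx : x ∈ D) : x = d ∨ x ∈ H99.perp D d ∨ x ∈ far D d := by
  by_cases h1 : x = d
  · exact Or.inl h1
  by_cases h2 : Commute d x
  · exact Or.inr (Or.inl ⟨hx, h1, h2⟩)
  · exact Or.inr (Or.inr ⟨hx, h2⟩)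

variable (h : Ctx Q c D d φ) (hf : AMap Q c D d φ f)
include h hf

lemma upMap_val {x : G} (hx : x ∈ D) : plusForm Q c (upMap d φ f x) = c := by
  rcases trichotomy (d := d) hx with rfl | h1 | h1
  · rw [upMap_self, plusForm_cons, QuadraticMap.map_zero]; ring
  · rw [upMap_perp h1, plusForm_cons, h.chart.val x h1]; ring
  · rw [upMap_far h1, plusForm_cons, (hf.sing x h1).2]; ring

lemma upMap_inj {x y : G} (hx : x ∈ D) (hy : y ∈ D)
    (hp : PM (upMap d φ f x) (upMap d φ f y)) : x = y := by
  rcases trichotomy (d := d) hx with h1 | h1 | h1 <;> rcases trichotomy (d := d) hy with h2 | h2 | h2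
  · rw [h1, h2]
  · rw [h1, upMap_self, upMap_perp h2] at hp
    exfalso; rcases pm_cons hp with ⟨e, -⟩ | ⟨e, -⟩ <;> revert e <;> decide
  · rw [h1, upMap_self, upMap_far h2] at hp
    rcases pm_cons hp with ⟨-, e⟩ | ⟨-, e⟩
    · exact absurd e (hf.sing y h2).1
    · exact absurd (e.trans neg_zero) (hf.sing y h2).1
  · rw [h2, upMap_self, upMap_perp h1] at hp
    exfalso; rcases pm_cons hp with ⟨e, -⟩ | ⟨e, -⟩ <;> revert e <;> decide
  · rw [upMap_perp h1, upMap_perp h2] at hp
    refine h.chart.inj x h1 y h2 ?_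
    rcases pm_cons hp with ⟨-, e⟩ | ⟨-, e⟩
    · exact Or.inl e
    · exact Or.inr e
  · rw [upMap_perp h1, upMap_far h2] at hp
    exfalso; rcases pm_cons hp with ⟨e, -⟩ | ⟨e, -⟩ <;> revert e <;> decide
  · rw [h2, upMap_self, upMap_far h1] at hp
    rcases pm_cons hp with ⟨-, e⟩ | ⟨-, e⟩
    · exact absurd e.symm (hf.sing x h1).1
    · exact absurd (neg_eq_zero.1 e.symm) (hf.sing x h1).1
  · rw [upMap_perp h2, upMap_far h1] at hp
    exfalso; rcases pm_cons hp with ⟨e, -⟩ | ⟨e, -⟩ <;> revert e <;> decide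
  · rw [upMap_far h1, upMap_far h2] at hp
    rcases pm_cons hp with ⟨-, e⟩ | ⟨e, -⟩
    · exact hf.inj x h1 y h2 e.symm
    · exact absurd e (by decide)

lemma upMap_surj (v : Fin (n + 1) → ZMod 3) (hv : plusForm Q c v = c) :
    ∃ x ∈ D, PM v (upMap d φ f x) := by
  obtain ⟨a, w, rfl⟩ := exists_cons v
  rw [plusForm_cons] at hv
  have hneg : ∀ (a : ZMod 3) (w : Fin n → ZMod 3),
      -(Fin.cons a w : Fin (n + 1) → ZMod 3) = Fin.cons (-a) (-w) := fun a w =>
    funext (Fin.cases rfl fun _ => rfl)
  by_cases ha : a = 0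
  · subst ha
    obtain ⟨x, hx, hp⟩ := h.chart.surj w (by simpa using hv)
    refine ⟨x, hx.1, ?_⟩
    rw [upMap_perp hx]
    rcases hp with e | e
    · exact Or.inl (by rw [e])
    · exact Or.inr (by rw [hneg, neg_zero, e])
  · rw [zmod_sq_one a ha, mul_one] at hv
    have hw : Q w = 0 := by simpa using hv
    -- normalise the new coordinate
    have main : ∀ w, Q w = 0 → ∃ x ∈ D, upMap d φ f x = Fin.cons 1 w := by
      intro w hw
      by_cases h0 : w = 0
      · exact ⟨d, h.mem, by rw [upMap_self, h0]⟩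
      · obtain ⟨x, hx, hxe⟩ := hf.surj w ⟨h0, hw⟩
        exact ⟨x, hx.1, by rw [upMap_far hx, hxe]⟩
    rcases (by decide : ∀ a : ZMod 3, a ≠ 0 → a = 1 ∨ a = -1) a ha with rfl | rfl
    · obtain ⟨x, hx, e⟩ := main w hw
      exact ⟨x, hx, Or.inl e⟩
    · obtain ⟨x, hx, e⟩ := main (-w) (by rw [qmap_neg, hw])
      exact ⟨x, hx, Or.inr (by rw [e, hneg, neg_neg])⟩

lemma upMap_comm {x y : G} (hx : x ∈ D) (hy : y ∈ D) (hne : x ≠ y) :
    Commute x y ↔ polB (plusForm Q c) (upMap d φ f x) (upMap d φ f y) = 0 := by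
  have h2c : 2 * c ≠ 0 := mul_ne_zero (by decide) h.cne
  have hz : ∀ b : ZMod 3, b = c ↔ 2 * c * (1 * 1) + b = 0 := fun b =>
    (by decide : ∀ c b : ZMod 3, b = c ↔ 2 * c * (1 * 1) + b = 0) c b
  rcases trichotomy (d := d) hx with h1 | h1 | h1 <;> rcases trichotomy (d := d) hy with h2 | h2 | h2
  · exact absurd (h1.trans h2.symm) hne
  · rw [h1, upMap_self, upMap_perp h2, polB_plusForm]
    exact iff_of_true h2.2.2 (by simp)
  · rw [h1, upMap_self, upMap_far h2, polB_plusForm]
    exact iff_of_false h2.2 (by simpa using h2c)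
  · rw [h2, upMap_self, upMap_perp h1, polB_plusForm]
    exact iff_of_true h1.2.2.symm (by simp)
  · rw [upMap_perp h1, upMap_perp h2, polB_plusForm, h.chart.comm x h1 y h2 hne]
    simp
  · rw [upMap_perp h1, upMap_far h2, polB_plusForm, hf.commE x h1 y h2]
    simp
  · rw [h2, upMap_self, upMap_far h1, polB_plusForm]
    exact iff_of_false (fun e => h1.2 e.symm) (by simpa using h2c)
  · rw [upMap_far h1, upMap_perp h2, polB_plusForm, polB_comm (Q := Q), Commute.symm_iff,
      hf.commE y h2 x h1]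
    simp
  · rw [upMap_far h1, upMap_far h2, polB_plusForm, hf.commA x h1 y h2 hne]
    exact hz _

/-- The members are the points one dimension up, and conjugation is reflection. -/
theorem chart_up : Chart (plusForm Q c) c D (upMap d φ f) := by
  refine ⟨fun x hx => upMap_val h hf hx, fun x hx y hy => upMap_inj h hf hx hy,
    fun v hv => upMap_surj h hf v hv, fun x hx y hy hne => upMap_comm h hf hx hy hne,
    fun x hx y hy => ?_⟩
  have hz : x * y * x ∈ D := by
    have := H99.class_conj_mem h.cls x hy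
    rwa [H99.tt_inv h.cls.1 hx] at this
  refine ⟨hz, ?_⟩
  set F := upMap d φ f
  set Q' := plusForm Q c
  have hxx : x * x = 1 := H99.tt_mul_self h.cls.1 hx
  have hval : ∀ x ∈ D, Q' (F x) = c := fun x hx => upMap_val h hf hx
  have hu0 : Q' (F x) ≠ 0 := (hval x hx).symm ▸ h.cne
  by_cases hxy : Commute x y
  · have he : x * y * x = y := by rw [hxy.eq, mul_assoc, hxx, mul_one]
    rw [he]
    by_cases hne : x = y
    · rw [← hne, refl_self hu0]
      exact Or.inr (neg_neg _).symm
    · rw [refl_fix (show polB Q' (F y) (F x) = 0 by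
        rw [polB_comm]; exact (upMap_comm h hf hx hy hne).1 hxy)]
      exact PM.refl _
  have hne : x ≠ y := fun e => hxy (by rw [e])
  have hB : polB Q' (F x) (F y) ≠ 0 := fun e => hxy ((upMap_comm h hf hx hy hne).2 e)
  have hd : 5 ≤ n := by simpa [Module.finrank_fin_fun] using h.dim
  have hQ' : (polB Q').Nondegenerate := plusForm_nondeg Q c h.nd h.cne
  obtain ⟨r, hr, hur, hpy⟩ := line_of_nonorth h.cne (hval x hx) (hval y hy)
    (fun e => hne (upMap_inj h hf hx hy e)) hB
  have hm := mem_line_of_perp hQ' (by rw [Module.finrank_fin_fun]; omega) h.cne (hval x hx) hr hur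
    (hval _ hz) fun p hp hpx hpr => ?_
  · rcases hm with e | e | e
    · refine absurd ?_ hne
      have e1 := upMap_inj h hf hz hx e
      calc x = x * (x * y * x) * x := by rw [e1, hxx, one_mul]
        _ = (x * x) * y * (x * x) := by group
        _ = y := by rw [hxx, one_mul, mul_one]
    · refine absurd ?_ hxy
      have e1 : x * y * x = y := upMap_inj h hf hz hy (e.trans hpy)
      show x * y = y * x
      calc x * y = x * y * (x * x) := by rw [hxx, mul_one]
        _ = x * y * x * x := by group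
        _ = y * x := by rw [e1]
    · exact ((refl_line hu0 hur).trans (hpy.orth _)).symm.trans e.symm
  · -- a point orthogonal to both sees the third member
    obtain ⟨q, hq, hpq⟩ := upMap_surj h hf p hp
    refine (hpq.polB_eq_zero' _).1 ?_
    have hqx : polB Q' (F x) (F q) = 0 := (hpq.polB_eq_zero _).2 hpx
    have hqy : polB Q' (F y) (F q) = 0 := by
      rw [hpq.polB_eq_zero]
      refine (hpy.polB_eq_zero' p).2 ?_
      rw [map_add, LinearMap.add_apply, hpx, hpr, add_zero]
    have hne1 : ∀ w ∈ D, polB Q' (F w) (F q) = 0 → Commute w q := fun w hw e => by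
      refine (upMap_comm h hf hw hq ?_).2 e
      rintro rfl
      rw [polB_self, hval w hw] at e
      exact mul_ne_zero z3_two h.cne e
    have c1 := hne1 x hx hqx
    have c2 : Commute (x * y * x) q := (c1.mul_left (hne1 y hy hqy)).mul_left c1
    have hne2 : q ≠ x * y * x := by
      rintro rfl
      refine hxy ?_
      show x * y = y * x
      calc x * y = x * y * x * x := by rw [mul_assoc, hxx, mul_one]
        _ = x * (x * y * x) := c1.eq.symm
        _ = (x * x) * y * x := by group
        _ = y * x := by rw [hxx, one_mul]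
    exact (upMap_comm h hf hq hz hne2).1 c2.symm

end model

/-- A chart of the whole class identifies the group. -/
theorem reflCase_of_chart {G : Type u} [Group G] [Finite G] {D : Set G} {m : ℕ}
    {Q : QuadraticForm (ZMod 3) (Fin m → ZMod 3)} {c : ZMod 3} {F : G → (Fin m → ZMod 3)}
    (hcls : IsThreeTranspositionClass D) (hZ : Subgroup.center G = ⊥)
    (hQ : (polB Q).Nondegenerate) (hm : 5 ≤ m) (hc : c ≠ 0) (hch : Chart Q c D F) :
    ReflCase G D m := by
  classical
  have hdim : 5 ≤ Module.finrank (ZMod 3) (Fin m → ZMod 3) := by rw [Module.finrank_fin_fun]; exact hm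
  have hbi := bridge_injective Q c
  have hbr := bridge_range Q c
  set R := ↥(Cfsg.reflectionSubgroup (⇑Q) c)
  set br : R →* orthGroup Q := bridge Q c
  have hex : ∀ v, ∃ r : R, Q v = c → br r = refl Q v := fun v => by
    by_cases hv : Q v = c
    · obtain ⟨r, hr⟩ := mem_range_refl hbr hv
      exact ⟨r, fun _ => hr⟩
    · exact ⟨1, fun h => absurd h hv⟩
  choose s hs using hex
  have hclR : Subgroup.closure (classSet br c) = ⊤ :=
    (isClass hQ (by omega) hc hbi hbr).2.2
  set E' : Set (R ⧸ Subgroup.center R) := QuotientGroup.mk '' classSet br c with hE'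
  have hmem : ∀ v, Q v = c → (QuotientGroup.mk (s v) : R ⧸ Subgroup.center R) ∈ E' := fun v hv =>
    ⟨s v, ⟨v, hv, hs v hv⟩, rfl⟩
  have hs_pm : ∀ {v w}, Q v = c → PM v w → s w = s v := fun {v w} hv hp => hbi (by
    rw [hs v hv, hs w (hp.qmap.trans hv), hp.refl_eq])
  have hof : ∀ e ∈ E', ∃ v, Q v = c ∧ e = QuotientGroup.mk (s v) := by
    rintro e ⟨r, ⟨v, hv, hr⟩, rfl⟩
    exact ⟨v, hv, congrArg _ (hbi (hr.trans (hs v hv).symm))⟩
  -- the reflections stay different modulo the centre
  have hinj : ∀ v w, Q v = c → Q w = c →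
      (QuotientGroup.mk (s v) : R ⧸ Subgroup.center R) = QuotientGroup.mk (s w) → PM v w := by
    intro v w hv hw he
    by_contra hne
    obtain ⟨p, hp, hwp, hvp, hnvp⟩ := exists_point_sep hQ hdim hc hv hw hne
    refine hvp ?_
    have hzc := Subgroup.mem_center_iff.1 (QuotientGroup.eq.1 he) (s p)
    have h1 := congrArg br hzc
    simp only [map_mul, map_inv, hs v hv, hs w hw, hs p hp, refl_inv] at h1
    have hwp' : Commute (refl Q p) (refl Q w) := by
      refine (refl_commute_iff (hp ▸ hc) (hp.trans hw.symm) (fun e => ?_) (fun e => ?_)).2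
        (by rw [polB_comm]; exact hwp)
      · rw [e, polB_self, hp] at hwp; exact mul_ne_zero z3_two hc hwp
      · rw [e, map_neg, LinearMap.neg_apply, polB_self, hp, neg_eq_zero] at hwp
        exact mul_ne_zero z3_two hc hwp
    refine (refl_commute_iff (hv ▸ hc) (hv.trans hp.symm) (fun e => hnvp (Or.inl e))
      (fun e => hnvp (Or.inr e))).1 ?_
    show refl Q v * refl Q p = refl Q p * refl Q v
    refine mul_right_cancel (b := refl Q w) ?_
    rw [mul_assoc, hwp'.eq, ← mul_assoc, ← h1, mul_assoc]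
  have hZ' : Subgroup.center (R ⧸ Subgroup.center R) = ⊥ := by
    rw [eq_bot_iff]
    intro z hz
    obtain ⟨g, rfl⟩ := QuotientGroup.mk_surjective z
    rw [Subgroup.mem_bot, QuotientGroup.eq_one_iff]
    refine Subgroup.mem_center_iff.2 fun r => ?_
    have hle : Subgroup.closure (classSet br c) ≤ Subgroup.centralizer {g} := by
      rw [Subgroup.closure_le]
      rintro r ⟨v, hv, hr⟩
      have hrv : r = s v := hbi (hr.trans (hs v hv).symm)
      subst hrv
      have hv' : Q ((br g).1 v) = c := by rw [orth_qmap, hv]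
      have hgv : g * s v * g⁻¹ = s ((br g).1 v) := hbi (by
        rw [map_mul, map_mul, map_inv, hs v hv, hs _ hv', refl_conj])
      have hq : (QuotientGroup.mk (s ((br g).1 v)) : R ⧸ Subgroup.center R) =
          QuotientGroup.mk (s v) := by
        rw [← hgv, QuotientGroup.mk_mul, QuotientGroup.mk_mul, ← Subgroup.mem_center_iff.1 hz,
          mul_assoc, ← QuotientGroup.mk_mul, mul_inv_cancel, QuotientGroup.mk_one, mul_one]
      refine Subgroup.mem_centralizer_singleton_iff.2 ?_
      have h5 := hs_pm hv' (hinj _ _ hv' hv hq)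
      rw [← hgv] at h5
      show s v * g = g * s v
      conv_lhs => rw [h5]
      rw [inv_mul_cancel_right]
    exact Subgroup.mem_centralizer_singleton_iff.1 (hle (hclR ▸ Subgroup.mem_top r))
  have hsq : ∀ v, Q v = c → s v * s v = 1 := fun v hv => hbi (by
    rw [map_mul, hs v hv, refl_sq, map_one])
  have hconjE : ∀ v w, Q v = c → Q w = c → s v * s w * s v = s ((refl Q v).1 w) := fun v w hv hw =>
    hbi (by rw [map_mul, map_mul, hs v hv, hs w hw, hs _ (by rw [orth_qmap, hw]), ← refl_conj,
      refl_inv])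
  have hCE : H98.M24.CE E' := by
    refine ⟨fun e he => ?_, fun e he e' he' => ?_⟩
    · obtain ⟨v, hv, rfl⟩ := hof e he
      rw [← QuotientGroup.mk_mul, hsq v hv, QuotientGroup.mk_one]
    · obtain ⟨v, hv, rfl⟩ := hof e he
      obtain ⟨w, hw, rfl⟩ := hof e' he'
      rw [← QuotientGroup.mk_mul, ← QuotientGroup.mk_mul, hconjE v w hv hw]
      exact hmem _ (by rw [orth_qmap, hw])
  have heqv : H98.M24.Eqv D E' fun x => QuotientGroup.mk (s (F x)) := by
    refine ⟨⟨fun x hx => hmem _ (hch.val x hx), fun x hx y hy e => hch.inj x hx y hy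
      (hinj _ _ (hch.val x hx) (hch.val y hy) e), fun e he => ?_⟩, fun x hx y hy => ?_⟩
    · obtain ⟨v, hv, rfl⟩ := hof e he
      obtain ⟨x, hx, hp⟩ := hch.surj v hv
      exact ⟨x, hx, congrArg QuotientGroup.mk (hs_pm hv hp)⟩
    · obtain ⟨hz, hp⟩ := hch.conj x hx y hy
      show QuotientGroup.mk (s (F (x * y * x))) = _
      rw [← QuotientGroup.mk_mul, ← QuotientGroup.mk_mul, hconjE _ _ (hch.val x hx) (hch.val y hy),
        hs_pm (by rw [orth_qmap, hch.val y hy]) hp]
  have hgen : Subgroup.closure E' = ⊤ := by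
    rw [hE', show (QuotientGroup.mk : R → R ⧸ Subgroup.center R) =
      ⇑(QuotientGroup.mk' (Subgroup.center R)) from rfl, ← MonoidHom.map_closure, hclR,
      Subgroup.map_top_of_surjective _ (QuotientGroup.mk'_surjective _)]
  obtain ⟨e, he⟩ := heqv.exists_mulEquiv (H98.M24.CE.of_class hcls) hCE hcls.2.2 hgen hZ hZ'
  refine ⟨Q, hQ, c, hc, e, ?_⟩
  rw [← classSet_eq Q c, show QuotientGroup.mk '' classSet br c = E' from rfl, ← heqv.bij.image_eq]
  exact Set.image_congr he

/-- A labelling gives the reflection group one dimension up. -/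
theorem reflCase_of_amap {G : Type u} [Group G] [Finite G] {D : Set G} {d : G} {n : ℕ}
    {Q : QuadraticForm (ZMod 3) (Fin n → ZMod 3)} {c : ZMod 3} {φ f : G → (Fin n → ZMod 3)}
    (hZ : Subgroup.center G = ⊥) (h : Ctx Q c D d φ) (hf : AMap Q c D d φ f) :
    ReflCase G D (n + 1) := by
  have hn : 5 ≤ n := by simpa [Module.finrank_fin_fun] using h.dim
  exact reflCase_of_chart h.cls hZ (plusForm_nondeg Q c h.nd h.cne) (by omega) h.cne (chart_up h hf)

end H20.FischerO3
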