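/-
Signs for the singular points: the labelling of the members not commuting with `d`.
-/
import Cfsg.Agent.H20.FischerO3.Global

set_option autoImplicit false
set_option linter.unusedSectionVars false

namespace H20.FischerO3

open Cfsg H43

variable {V : Type*} [AddCommGroup V] [Module (ZMod 3) V] [FiniteDimensional (ZMod 3) V]
variable {Q : QuadraticForm (ZMod 3) V} {c : ZMod 3}
variable {G : Type*} [Group G]

lemma z3_cases {x k : ZMod 3} : x ≠ 0 → k ≠ 0 → x = k ∨ x = -k := by revert x k; decide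

lemma z3_neg_ne {k : ZMod 3} : k ≠ 0 → -k ≠ k := by revert k; decide

lemma z3_neg_iff {x k : ZMod 3} : x ≠ 0 → k ≠ 0 → (-x = k ↔ ¬ x = k) := by revert x k; decide

lemma z3_pm {x k : ZMod 3} : k ≠ 0 → k * x * x = 0 ∨ k * x * x = k := by revert x k; decide

lemma z3_triangle {k a b γ : ZMod 3} : k ≠ 0 → a ≠ 0 → b ≠ 0 →
    (-(k * a * a) - k * b * b + k * k * (a * b) * γ = k ↔ γ = 0) := by revert k a b γ; decide

namespace Ctx

variable {D : Set G} {d : G} {φ : G → V} (h : Ctx Q c D d φ) [Finite G] [Finite V]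
include h

lemma dad {a : G} (ha : a ∈ far D d) : d * a * d = a * d * a :=
  H99.tt_braid h.tt h.mem ha.1 ha.2

lemma flip_flip (a : G) : d * (d * a * d) * d = a := by
  rw [show d * (d * a * d) * d = d * d * a * (d * d) by group, h.sq h.mem, one_mul, mul_one]

lemma flip_cancel {a b : G} (e : d * a * d = d * b * d) : a = b := by
  rw [← h.flip_flip a, e, h.flip_flip]

/-- At most one member of a pair commutes with `a`. -/
lemma not_both {a b : G} (ha : a ∈ far D d) (hb : b ∈ far D d) (h1 : Commute a b)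
    (h2 : Commute a (d * b * d)) : False := by
  have h3 : Commute a (b * (d * b * d) * b) := (h1.mul_right h2).mul_right h1
  rw [h.dad hb, show b * (b * d * b) * b = b * b * d * (b * b) by group, h.sq hb.1, one_mul,
    mul_one] at h3
  exact ha.2 h3.symm

/-- Two commuting members not commuting with `d` differ by a partner. -/
lemma partner {a b : G} {r : V} (hb : b ∈ far D d) (hab : Commute a b)
    (hne : a ≠ b) (hr : Wt Q D d φ a r) :
    a * (d * b * d) * a ∈ H99.perp D d ∧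
      polB Q (φ (a * (d * b * d) * a)) r ≠ 0 ∧
      Wt Q D d φ b ((refl Q (φ (a * (d * b * d) * a))).1 r) := by
  have ha := hr.far
  set z := a * (d * b * d) * a with hz
  have hfb := h.far_flip hb
  have ea : a * (d * b * d) * a = z := rfl
  have haza : a * z * a = d * b * d := by
    rw [hz, show a * (a * (d * b * d) * a) * a = a * a * (d * b * d) * (a * a) by group, h.sq ha.1,
      one_mul, mul_one]
  have hzd : z ≠ d := by
    intro e
    rw [e, ← h.dad ha] at haza
    exact hne (h.flip_cancel haza)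
  have hcz : Commute z d := by
    have h1 : Commute (d * b * d) (a * d * a) := by
      rw [← h.dad ha]
      have := (H99.conj_commute_iff d b a).2 hab.symm
      rwa [h.inv_eq h.mem] at this
    have h2 := (H99.conj_commute_iff a _ _).2 h1
    rw [h.inv_eq ha.1, show a * (a * d * a) * a = a * a * d * (a * a) by group, h.sq ha.1, one_mul,
      mul_one] at h2
    exact h2
  have hzE : z ∈ H99.perp D d := ⟨h.conj' ha.1 hfb.1, hzd, hcz.symm⟩
  have hnza : ¬ Commute z a := by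
    intro hc
    have : z = d * b * d := by rw [← haza, ← hc.eq, mul_assoc, h.sq ha.1, mul_one]
    exact hfb.2 (this ▸ hzE.2.2)
  refine ⟨hzE, fun h0 => hnza ((h.wt_commute hr hzE).2 h0), ?_⟩
  have hw := h.wt_conj (g := z) (o := refl Q (φ z)) (Subgroup.subset_closure hzE)
    (fun x hx => by rw [h.inv_eq hzE.1]; exact h.chart.conj z hzE x hx) hr
  rw [h.inv_eq hzE.1, H99.tt_braid h.tt hzE.1 ha.1 hnza, haza] at hw
  have := h.wt_flip hw
  rwa [h.flip_flip] at this

/-- The sign seen through a partner. -/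
lemma lift_eq {r : V} (hr : Q r = 0) {z : G} (hz : z ∈ H99.perp D d)
    (h0 : polB Q (φ z) r ≠ 0) {u : V} (hu : PM ((refl Q (φ z)).1 r) u) (hc : polB Q r u = c) :
    u = -(refl Q (φ z)).1 r := by
  rcases hu with rfl | rfl
  · exfalso
    rw [refl_apply, map_sub, map_smul, polB_self, hr, h.chart.val z hz, inv_mul_self_three h.cne,
      polB_comm r, smul_eq_mul] at hc
    revert hc
    generalize polB Q (φ z) r = β at h0
    revert h0
    have := h.cne
    revert this
    revert β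
    generalize c = k
    revert k
    decide
  · rfl

lemma wt_self_polB {a : G} {v u : V} (h1 : Wt Q D d φ a v) (h2 : Wt Q D d φ a u) :
    polB Q v u = 0 := by
  rw [(h.wt_unique h1 h2).polB_eq_zero, polB_self, h1.sg.2, mul_zero]

lemma commute_imp {a b : G} {v u : V} (ha : Wt Q D d φ a v) (hb : Wt Q D d φ b u) (hne : a ≠ b)
    (hab : Commute a b) : polB Q v u ≠ 0 := by
  obtain ⟨hzE, hz0, hw⟩ := h.partner hb.far hab hne ha
  rw [Ne, (h.wt_unique hw hb).polB_eq_zero, refl_apply, map_sub, map_smul, polB_self, ha.sg.2,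
    h.chart.val _ hzE, inv_mul_self_three h.cne, polB_comm v, smul_eq_mul]
  revert hz0
  generalize polB Q (φ (a * (d * b * d) * a)) v = β
  have := h.cne
  revert this β
  generalize c = k
  revert k
  decide

lemma exists_commute {a b : G} {v u : V} (ha : Wt Q D d φ a v) (hb : Wt Q D d φ b u)
    (h0 : polB Q v u ≠ 0) : Commute a b ∨ Commute a (d * b * d) := by
  obtain ⟨u', hu', hc'⟩ : ∃ u', PM u u' ∧ polB Q v u' = c := by
    rcases z3_cases h0 h.cne with e | e
    · exact ⟨u, PM.refl u, e⟩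
    · exact ⟨-u, PM.neg_self u, by rw [map_neg, e, neg_neg]⟩
  have hb' := hb.of_pm hu'
  have hq : Q (v + u') = c := by rw [qmap_add, ha.sg.2, hb'.sg.2, hc', zero_add, zero_add]
  obtain ⟨z, hzE, hpz⟩ := h.chart.surj (v + u') hq
  have hrz : (refl Q (φ z)).1 v = -u' := by
    rw [hpz.refl_eq, refl_apply, hq, map_add (polB Q v), polB_self, ha.sg.2, hc',
      inv_mul_self_three h.cne, mul_zero, zero_add, H99.ReflThree.zmod_sq_one c h.cne, one_smul]
    abel
  have hnza : ¬ Commute z a := fun hcm => by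
    have h1 := (h.wt_commute ha hzE).1 hcm
    rw [hpz.polB_eq_zero', map_add, LinearMap.add_apply, polB_self, ha.sg.2, mul_zero, zero_add,
      polB_comm, hc'] at h1
    exact h.cne h1
  have hw := h.wt_conj (g := z) (o := refl Q (φ z)) (Subgroup.subset_closure hzE)
    (fun x hx => by rw [h.inv_eq hzE.1]; exact h.chart.conj z hzE x hx) ha
  rw [h.inv_eq hzE.1, H99.tt_braid h.tt hzE.1 ha.far.1 hnza, hrz] at hw
  have hw' := hw.of_pm (PM.neg_self (-u'))
  rw [neg_neg] at hw'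
  have hcd : Commute (d * a * d) (a * z * a) := by
    have h1 := (H99.conj_commute_iff a d z).2 hzE.2.2
    rwa [h.inv_eq ha.far.1, ← h.dad ha.far] at h1
  rcases h.wt_inj hb' hw' with e | e
  · right
    rw [e] at hcd
    have h1 := (H99.conj_commute_iff d _ _).2 hcd
    rwa [h.inv_eq h.mem, h.flip_flip] at h1
  · left
    rw [e] at hcd
    have h1 := (H99.conj_commute_iff d _ _).2 hcd
    rwa [h.inv_eq h.mem, h.flip_flip, h.flip_flip] at h1

omit h in
/-- `v` and `u` are compatible signs at `a` and `b`. -/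
def Ok (Q : QuadraticForm (ZMod 3) V) (c : ZMod 3) (a b : G) (v u : V) : Prop :=
  Commute a b ↔ polB Q v u = c

omit h in
lemma Ok.symm {a b : G} {v u : V} (hk : Ok Q c a b v u) : Ok Q c b a u v := by
  unfold Ok at hk ⊢
  rw [polB_comm u v, ← hk]
  exact ⟨Commute.symm, Commute.symm⟩

lemma ok_flip {a b : G} {v u : V} (ha : Wt Q D d φ a v) (hb : Wt Q D d φ b u)
    (h0 : polB Q v u ≠ 0) (hk : Ok Q c a b v u) : Ok Q c a (d * b * d) v (-u) := by
  unfold Ok at hk ⊢
  rw [map_neg, z3_neg_iff h0 h.cne, ← hk]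
  exact ⟨fun h1 h2 => h.not_both ha.far hb.far h2 h1,
    fun h1 => (h.exists_commute ha hb h0).resolve_left h1⟩

lemma ok_flip' {a b : G} {v u : V} (ha : Wt Q D d φ a v) (hb : Wt Q D d φ b u)
    (h0 : polB Q v u ≠ 0) (hk : Ok Q c a b v u) : Ok Q c (d * a * d) b (-v) u :=
  (h.ok_flip hb ha (by rwa [polB_comm]) hk.symm).symm

lemma wt_flip_neg {a : G} {v : V} (ha : Wt Q D d φ a v) : Wt Q D d φ (d * a * d) (-v) :=
  (h.wt_flip ha).of_pm (PM.neg_self v)

omit h in
lemma ok_or {a b : G} {v u : V} (hc : c ≠ 0) (h0 : polB Q v u ≠ 0) :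
    Ok Q c a b v u ∨ Ok Q c a b v (-u) := by
  unfold Ok
  rw [map_neg, z3_neg_iff h0 hc]
  by_cases h1 : Commute a b <;> by_cases h2 : polB Q v u = c <;> simp [h1, h2]

omit h in
lemma ok_neg_absurd {a b : G} {v u : V} (hc : c ≠ 0) (h0 : polB Q v u ≠ 0)
    (h1 : Ok Q c a b v u) (h2 : Ok Q c a b v (-u)) : False := by
  unfold Ok at h1 h2
  rw [map_neg, z3_neg_iff h0 hc, h1] at h2
  exact iff_not_self h2

lemma triangle_core {a b b' : G} {v u u' : V} (ha : Wt Q D d φ a v) (hb : Wt Q D d φ b u)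
    (hb' : Wt Q D d φ b' u') (h1 : polB Q v u = c) (h2 : polB Q v u' = c)
    (h3 : polB Q u u' ≠ 0) (c1 : Commute a b) (c2 : Commute a b') : Ok Q c b b' u u' := by
  have hbb : b ≠ b' := fun e => h3 (h.wt_self_polB (e ▸ hb) hb')
  have hne : a ≠ b := fun e => h.cne (h1.symm.trans (h.wt_self_polB ha (e ▸ hb)))
  have hne' : a ≠ b' := fun e => h.cne (h2.symm.trans (h.wt_self_polB ha (e ▸ hb')))
  obtain ⟨hz, hz0, hw⟩ := h.partner hb.far c1 hne ha
  obtain ⟨hz', hz0', hw'⟩ := h.partner hb'.far c2 hne' ha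
  set z := a * (d * b * d) * a with hzdef
  set z' := a * (d * b' * d) * a with hzdef'
  have eu := h.lift_eq ha.sg.2 hz hz0 (h.wt_unique hw hb) h1
  have eu' := h.lift_eq ha.sg.2 hz' hz0' (h.wt_unique hw' hb') h2
  have hzz : z ≠ z' := fun e => hbb (h.flip_cancel (mul_left_cancel (mul_right_cancel e)))
  have hcm : Commute b b' ↔ Commute z z' := by
    have k1 := H99.conj_commute_iff d b b'
    have k2 := H99.conj_commute_iff a (d * b * d) (d * b' * d)
    rw [h.inv_eq h.mem] at k1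
    rw [h.inv_eq ha.far.1] at k2
    exact k1.symm.trans k2.symm
  unfold Ok
  rw [hcm, h.chart.comm z hz z' hz' hzz, eu, eu', map_neg, map_neg, LinearMap.neg_apply, neg_neg,
    refl_apply, refl_apply, h.chart.val z hz, h.chart.val z' hz', inv_mul_self_three h.cne]
  simp only [map_sub, map_smul, LinearMap.sub_apply, LinearMap.smul_apply, smul_eq_mul, polB_self,
    ha.sg.2, mul_zero, zero_sub]
  rw [polB_comm (φ z) v] at hz0 ⊢
  rw [polB_comm (φ z') v] at hz0'
  refine (z3_triangle h.cne hz0 hz0' (γ := polB Q (φ z) (φ z'))).symm.trans ?_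
  constructor <;> intro e <;> linear_combination e

lemma triangle {a b b' : G} {v u u' : V} (ha : Wt Q D d φ a v) (hb : Wt Q D d φ b u)
    (hb' : Wt Q D d φ b' u') (h1 : polB Q v u ≠ 0) (h2 : polB Q v u' ≠ 0)
    (h3 : polB Q u u' ≠ 0) (k1 : Ok Q c a b v u) (k2 : Ok Q c a b' v u') :
    Ok Q c b b' u u' := by
  by_cases c1 : Commute a b
  · by_cases c2 : Commute a b'
    · exact h.triangle_core ha hb hb' (k1.1 c1) (k2.1 c2) h3 c1 c2
    · have hk := h.ok_flip ha hb' h2 k2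
      have hc2 := (h.exists_commute ha hb' h2).resolve_left c2
      have := h.triangle_core ha hb (h.wt_flip_neg hb') (k1.1 c1) (hk.1 hc2)
        (by rw [map_neg]; exact neg_ne_zero.2 h3) c1 hc2
      have := h.ok_flip hb (h.wt_flip_neg hb') (by rw [map_neg]; exact neg_ne_zero.2 h3) this
      rwa [h.flip_flip, neg_neg] at this
  · have hk1 := h.ok_flip ha hb h1 k1
    have hc1 := (h.exists_commute ha hb h1).resolve_left c1
    have h3' : polB Q (-u) u' ≠ 0 := by
      rw [map_neg, LinearMap.neg_apply]; exact neg_ne_zero.2 h3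
    suffices Ok Q c (d * b * d) b' (-u) u' by
      have := h.ok_flip' (h.wt_flip_neg hb) hb' h3' this
      rwa [h.flip_flip, neg_neg] at this
    by_cases c2 : Commute a b'
    · exact h.triangle_core ha (h.wt_flip_neg hb) hb' (hk1.1 hc1) (k2.1 c2) h3' hc1 c2
    · have hk := h.ok_flip ha hb' h2 k2
      have hc2 := (h.exists_commute ha hb' h2).resolve_left c2
      have h3'' : polB Q (-u) (-u') ≠ 0 := by rw [map_neg]; exact neg_ne_zero.2 h3'
      have := h.triangle_core ha (h.wt_flip_neg hb) (h.wt_flip_neg hb') (hk1.1 hc1) (hk.1 hc2)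
        h3'' hc1 hc2
      have := h.ok_flip (h.wt_flip_neg hb) (h.wt_flip_neg hb') h3'' this
      rwa [h.flip_flip, neg_neg] at this

omit h in
/-- `v` is the sign at `a` compatible with the base `a₀, r₀`. -/
def Lab (Q : QuadraticForm (ZMod 3) V) (c : ZMod 3) (D : Set G) (d : G) (φ : G → V) (a₀ : G)
    (r₀ : V) (a : G) (v : V) : Prop :=
  Wt Q D d φ a v ∧ ∀ b u, Wt Q D d φ b u → polB Q r₀ u ≠ 0 → Ok Q c a₀ b r₀ u →
    polB Q v u ≠ 0 → Ok Q c a b v u

variable {a₀ : G} {r₀ : V} (h₀ : Wt Q D d φ a₀ r₀)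
include h₀

lemma exists_based {v : V} (hv : Sg Q v) (h1 : polB Q r₀ v ≠ 0) :
    ∃ b u, PM v u ∧ Wt Q D d φ b u ∧ polB Q r₀ u ≠ 0 ∧ Ok Q c a₀ b r₀ u := by
  obtain ⟨b, hb⟩ := h.wt_surj hv
  rcases ok_or (a := a₀) (b := b) h.cne h1 with hk | hk
  · exact ⟨b, v, PM.refl v, hb, h1, hk⟩
  · exact ⟨b, -v, PM.neg_self v, hb.of_pm (PM.neg_self v),
      by rw [map_neg]; exact neg_ne_zero.2 h1, hk⟩

lemma lab_exists {a : G} (ha : a ∈ far D d) : ∃ v, Lab Q c D d φ a₀ r₀ a v := by
  obtain ⟨v₁, hv₁⟩ := h.wt_exists ha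
  obtain ⟨s, hs, hs1, hs2⟩ := exists_sg_nonorth_two h.nd h.dim h₀.sg hv₁.sg
  obtain ⟨b, u, hpu, hb, hu0, hku⟩ := h.exists_based h₀ hs hs1
  have hu1 : polB Q v₁ u ≠ 0 := fun e => hs2 ((hpu.polB_eq_zero _).1 e)
  obtain ⟨v, hv, hv0, hkv⟩ : ∃ v, Wt Q D d φ a v ∧ polB Q v u ≠ 0 ∧ Ok Q c a b v u := by
    rcases ok_or (a := b) (b := a) h.cne (show polB Q u v₁ ≠ 0 by rwa [polB_comm]) with hk | hk
    · exact ⟨v₁, hv₁, hu1, hk.symm⟩
    · exact ⟨-v₁, hv₁.of_pm (PM.neg_self _),
        by rw [map_neg, LinearMap.neg_apply]; exact neg_ne_zero.2 hu1, hk.symm⟩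
  refine ⟨v, hv, fun b' u' hb' hu0' hku' hv0' => ?_⟩
  have hvr : polB Q u v ≠ 0 := by rwa [polB_comm]
  by_cases h00 : polB Q r₀ v = 0
  · by_cases huu : polB Q u u' = 0
    · obtain ⟨s', hs', k1, k2, k3, k4⟩ := exists_sg_nonorth_four h.nd h.dim h₀.sg hv.sg hb.sg
        hb'.sg h00 huu hu0 hu0' hv0 hv0'
      obtain ⟨e, w, hpw, he, hw0, hkw⟩ := h.exists_based h₀ hs' k1
      have q2 : polB Q v w ≠ 0 := fun e => k2 ((hpw.polB_eq_zero _).1 e)
      have q3 : polB Q u w ≠ 0 := fun e => k3 ((hpw.polB_eq_zero _).1 e)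
      have q4 : polB Q w u' ≠ 0 := fun e => k4 ((hpw.polB_eq_zero _).1 (by rwa [polB_comm]))
      have g1 : Ok Q c b e u w := h.triangle h₀ hb he hu0 hw0 q3 hku hkw
      have g2 : Ok Q c a e v w := h.triangle hb hv he hvr q3 q2 hkv.symm g1
      have g3 : Ok Q c e b' w u' := h.triangle h₀ he hb' hw0 hu0' q4 hkw hku'
      exact h.triangle he hv hb' (by rwa [polB_comm]) q4 hv0' g2.symm g3
    · exact h.triangle hb hv hb' hvr huu hv0' hkv.symm (h.triangle h₀ hb hb' hu0 hu0' huu hku hku')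
  · have g : Ok Q c a₀ a r₀ v :=
      h.triangle hb h₀ hv (by rwa [polB_comm]) hvr h00 hku.symm hkv.symm
    exact h.triangle h₀ hv hb' h00 hu0' hv0' g hku'

lemma lab_unique {a : G} {v : V} (h1 : Lab Q c D d φ a₀ r₀ a v)
    (h2 : Lab Q c D d φ a₀ r₀ a (-v)) : False := by
  obtain ⟨s, hs, hs1, hs2⟩ := exists_sg_nonorth_two h.nd h.dim h₀.sg h1.1.sg
  obtain ⟨b, u, hpu, hb, hu0, hku⟩ := h.exists_based h₀ hs hs1
  have hu1 : polB Q v u ≠ 0 := fun e => hs2 ((hpu.polB_eq_zero _).1 e)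
  have k1 := h1.2 b u hb hu0 hku hu1
  have k2 := h2.2 b u hb hu0 hku (by rw [map_neg, LinearMap.neg_apply]; exact neg_ne_zero.2 hu1)
  exact ok_neg_absurd h.cne (by rwa [polB_comm]) k1.symm k2.symm

lemma lab_eq {a : G} {v v' : V} (h1 : Lab Q c D d φ a₀ r₀ a v)
    (h2 : Lab Q c D d φ a₀ r₀ a v') : v' = v := by
  rcases h.wt_unique h1.1 h2.1 with e | e
  · exact e
  · exact (h.lab_unique h₀ h1 (e ▸ h2)).elim

lemma lab_flip {a : G} {v : V} (h1 : Lab Q c D d φ a₀ r₀ a v) :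
    Lab Q c D d φ a₀ r₀ (d * a * d) (-v) := by
  refine ⟨h.wt_flip_neg h1.1, fun b u hb hu0 hku hvu => ?_⟩
  have hvu' : polB Q v u ≠ 0 := by
    rw [map_neg, LinearMap.neg_apply] at hvu; exact neg_ne_zero.1 hvu
  exact h.ok_flip' h1.1 hb hvu' (h1.2 b u hb hu0 hku hvu')

lemma lab_ok {a b : G} {v u : V} (h1 : Lab Q c D d φ a₀ r₀ a v) (h2 : Lab Q c D d φ a₀ r₀ b u)
    (h0 : polB Q v u ≠ 0) : Ok Q c a b v u := by
  obtain ⟨s, hs, k1, k2, k3⟩ := exists_sg_nonorth_three h.nd h.dim h₀.sg h1.1.sg h2.1.sg h0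
  obtain ⟨e, w, hpw, he, hw0, hkw⟩ := h.exists_based h₀ hs k1
  have q2 : polB Q v w ≠ 0 := fun e' => k2 ((hpw.polB_eq_zero _).1 e')
  have q3 : polB Q u w ≠ 0 := fun e' => k3 ((hpw.polB_eq_zero _).1 e')
  exact h.triangle he h1.1 h2.1 (by rwa [polB_comm]) (by rwa [polB_comm]) h0
    (h1.2 e w he hw0 hkw q2).symm (h2.2 e w he hw0 hkw q3).symm

omit h₀

/-- The labelling exists. -/
theorem exists_amap : ∃ f : G → V, AMap Q c D d φ f := by
  classical
  obtain ⟨v, hv⟩ := exists_qmap_eq h.nd (by have := h.dim; omega) c h.cne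
  obtain ⟨r₀, hr₀, -⟩ := exists_sg_perp h.nd h.dim h.cne hv
  obtain ⟨a₀, h₀⟩ := h.wt_surj hr₀
  let f : G → V := fun a => if ha : a ∈ far D d then (h.lab_exists h₀ ha).choose else 0
  have hf : ∀ a ∈ far D d, Lab Q c D d φ a₀ r₀ a (f a) := fun a ha => by
    simp only [f, dif_pos ha]
    exact (h.lab_exists h₀ ha).choose_spec
  have hflip : ∀ a ∈ far D d, f (d * a * d) = -f a := fun a ha =>
    h.lab_eq h₀ (h.lab_flip h₀ (hf a ha)) (hf _ (h.far_flip ha))
  refine ⟨f, ⟨fun a ha => (hf a ha).1.sg, hflip, fun a ha b hb e => ?_, fun r hr => ?_,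
    fun x hx a ha => h.wt_commute (hf a ha).1 hx, fun a ha b hb hne => ?_⟩⟩
  · rcases h.wt_inj (hf a ha).1 (show Wt Q D d φ b (f a) from e ▸ (hf b hb).1) with rfl | rfl
    · rfl
    · rw [hflip a ha] at e
      refine absurd ?_ (hf a ha).1.sg.1
      have h2 : (2 : ZMod 3) • f a = 0 := by
        rw [two_smul]; nth_rewrite 2 [e]; exact add_neg_cancel _
      exact (smul_eq_zero.1 h2).resolve_left z3_two
  · obtain ⟨a, ha⟩ := h.wt_surj hr
    rcases h.wt_unique (hf a ha.far).1 ha with e | e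
    · exact ⟨a, ha.far, e.symm⟩
    · exact ⟨_, h.far_flip ha.far, by rw [hflip a ha.far, e]⟩
  · by_cases h0 : polB Q (f a) (f b) = 0
    · rw [h0]
      exact ⟨fun hc => absurd h0 (h.commute_imp (hf a ha).1 (hf b hb).1 hne hc),
        fun e => absurd e.symm h.cne⟩
    · exact h.lab_ok h₀ (hf a ha) (hf b hb) h0

end Ctx

end H20.FischerO3
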