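/-
One step up from a reflection group over the field with three elements.
-/
import Cfsg.Agent.H20.FischerO3.Sign
import Cfsg.Agent.H20.FischerO3.FromCase
import Cfsg.Agent.H20.FischerO3.Model

set_option autoImplicit false

namespace H20.FischerO3

open Cfsg H71.Fischer

universe u

/-- The step of Fischer's classification over the reflection groups. -/
theorem reflStep : ReflStmt.{u} := by
  intro G _ _ D d n s hn hX
  obtain ⟨Q, c, φ, h⟩ := ctx_of_reflCase s hn hX
  obtain ⟨f, hf⟩ := h.exists_amap
  exact reflCase_of_amap s.triv h hf

end H20.FischerO3
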